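import Cfsg.Agent.SPW6.Api

/-!
# Standard subgroups of type `Sp_{2k}(2ⁿ)`, type IV: chains
-/

set_option autoImplicit false
set_option linter.unusedSectionVars false

namespace Cfsg.Lib.SPW6

open Subgroup Module Cfsg.Lib.Trans Cfsg.Lib.Gold Cfsg.Lib.Class.Form Cfsg.Lib.Class.FAut
open Cfsg.Lib.UM6 (tT tE VW RR Fx St QW Cf mp Semi fa Mp cx re Ot kk Mx)
open Cfsg.Lib.SP7
open Cfsg.Lib.SG2 (Uq Top)
open Cfsg.Lib.Comp (Tw)
open Cfsg.Lib.Chev.SpAm (Ix Sp bv idx Fn FixI pl TM)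
open scoped commutatorElement

section Model
variable {F M : Type*} [Field F] [Finite F] [AddCommGroup M] [Module F M] [FiniteDimensional F M]
  {B : M →ₗ[F] M →ₗ[F] F} {c c' : ℕ → M} {α : MulAut (sIsom B)} {Γ : M ≃+ M} {τ : F ≃+* F}
  {γ : (F ≃+* F) →* MulAut (sIsom B)} {g g' : sIsom B} {i j : ℕ}

theorem C0.one (k : Ch B c) (e : i + j + 1 = 2 * kk F M) : B (c i) (c j) = 1 := by
  rw [k, if_pos e]

theorem C0.zero (k : Ch B c) (e : i + j + 1 ≠ 2 * kk F M) : B (c i) (c j) = 0 := by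
  rw [k, if_neg e]

theorem Ch.li (k : Ch B c) : LinearIndependent F fun i : Fin (2 * kk F M) => c i :=
  Fintype.linearIndependent_iff.2 fun a e i => by
    have := congrArg (B (c (2 * kk F M - 1 - i))) e
    rw [map_sum, map_zero, Finset.sum_eq_single i] at this
    · rwa [map_smul, C0.one k (by omega), smul_eq_mul, mul_one] at this
    · intro j _ hj
      rw [map_smul, C0.zero k (by have := Fin.val_ne_of_ne hj; omega), smul_zero]
    · simp

theorem Ch.rank_Lf (k : Ch B c) (hj : j ≤ 2 * kk F M) : finrank F (Lf F c j) = j := by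
  have h1 := finrank_span_eq_card (k.li.comp (Fin.castLE hj) (Fin.castLE_injective hj))
  have h2 : Set.range ((fun i : Fin (2 * kk F M) => c i) ∘ Fin.castLE hj) = c '' Set.Iio j := by
    ext x
    exact ⟨fun ⟨i, e⟩ => ⟨i, i.2, e⟩, fun ⟨i, hi, e⟩ => ⟨⟨i, hi⟩, e⟩⟩
  rwa [h2, Fintype.card_fin] at h1

theorem Ch.spans (k : Ch B c) (h : Mo B) : Submodule.span F (c '' Set.Iio (2 * kk F M)) = ⊤ :=
  Submodule.eq_top_of_finrank_eq ((k.rank_Lf le_rfl).trans h.rank_eq.symm)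

theorem Ch.eq_zero (k : Ch B c) (h : Mo B) {x : M} (e : ∀ i, i < 2 * kk F M → B (c i) x = 0) :
    x = 0 := by
  by_contra x0
  obtain ⟨y, hy⟩ := h.exists_eq x0 1
  have : x ∈ orth B (Submodule.span F (c '' Set.Iio (2 * kk F M))) :=
    mem_orth_span.2 (by rintro _ ⟨i, hi, rfl⟩; exact e i hi)
  exact zero_ne_one ((h.swap (this y ((k.spans h).ge trivial))).symm.trans hy)

theorem Ch.zero (k : Ch B c) (h : Mo B) (hj : 2 * kk F M ≤ j) : c j = 0 :=
  k.eq_zero h fun _ _ => C0.zero k (by omega)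

theorem Ch.ne (k : Ch B c) (hj : j < 2 * kk F M) : c j ≠ 0 := fun e => by
  have := C0.one k (i := 2 * kk F M - 1 - j) (j := j) (by omega)
  rw [e, map_zero] at this
  exact zero_ne_one this

theorem Ch.p2 (k : Ch B c) (hi : i < 2 * kk F M) (hj : j < 2 * kk F M) (e : i ≠ j)
    (e' : i + j + 1 ≠ 2 * kk F M) : P2 B (c i) (c j) :=
  P2.iff.2 ⟨C0.zero k e', k.ne hi, fun hm => by
    obtain ⟨a, ha⟩ := Submodule.mem_span_singleton.1 hm
    have := C0.one k (i := 2 * kk F M - 1 - j) (j := j) (by omega)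
    rw [← ha, map_smul, C0.zero k (by omega), smul_zero] at this
    exact zero_ne_one this⟩

theorem Ch.expand (k : Ch B c) (h : Mo B) (x : M) :
    x = ∑ i ∈ Finset.range (2 * kk F M), B (c (2 * kk F M - 1 - i)) x • c i :=
  sub_eq_zero.1 (k.eq_zero h fun l hl => by
    rw [map_sub, map_sum, Finset.sum_eq_single (2 * kk F M - 1 - l)]
    · rw [map_smul, C0.one k (by omega), smul_eq_mul, mul_one,
        show 2 * kk F M - 1 - (2 * kk F M - 1 - l) = l by omega, sub_self]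
    · intro j _ hj
      rw [map_smul, C0.zero k (by omega), smul_zero]
    · intro hn
      exact (hn (Finset.mem_range.2 (by omega))).elim)

theorem Ch.mem_span (k : Ch B c) (h : Mo B) {s : Set ℕ} {x : M} : x ∈ Submodule.span F (c '' s) ↔
    ∀ i, i < 2 * kk F M → 2 * kk F M - 1 - i ∉ s → B (c i) x = 0 := by
  constructor
  · intro hx i hi hs
    have : Submodule.span F (c '' s) ≤ LinearMap.ker (B (c i)) := Submodule.span_le.2 (by
      rintro _ ⟨j, hj, rfl⟩
      exact C0.zero k fun e => hs (by rwa [show 2 * kk F M - 1 - i = j by omega]))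
    exact this hx
  · intro e
    rw [k.expand h x]
    refine Submodule.sum_mem _ fun i hi => ?_
    have hi := Finset.mem_range.1 hi
    by_cases hs : i ∈ s
    · exact Submodule.smul_mem _ _ (Submodule.subset_span ⟨i, hs, rfl⟩)
    · rw [e _ (by omega) (by rwa [show 2 * kk F M - 1 - (2 * kk F M - 1 - i) = i by omega]),
        zero_smul]
      exact zero_mem _

theorem Ch.mem_Lf (k : Ch B c) (h : Mo B) {x : M} :
    x ∈ Lf F c j ↔ ∀ i, i + j < 2 * kk F M → B (c i) x = 0 :=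
  (k.mem_span h).trans (forall_congr' fun i => by
    simp only [Set.mem_Iio]
    exact ⟨fun e hi => e (by omega) (by omega), fun e h1 h2 => e (by omega)⟩)

theorem Ch.mem_Nf (k : Ch B c) (h : Mo B) {x : M} : x ∈ Nf F c i ↔
    ∀ j, j < 2 * kk F M → j ≤ i ∨ 2 * kk F M ≤ i + j + 1 → B (c j) x = 0 :=
  (k.mem_span h).trans (forall₂_congr fun j hj => by
    simp only [Set.mem_Ioo]
    exact ⟨fun e hi => e (by omega), fun e hi => e (by omega)⟩)

theorem mem_Lf_of (e : i < j) : c i ∈ Lf F c j := Submodule.subset_span ⟨i, e, rfl⟩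

theorem Lf_mono (e : i ≤ j) : Lf F c i ≤ Lf F c j :=
  Submodule.span_mono (Set.image_mono (Set.Iio_subset_Iio e))

theorem Lf_zero : Lf F c 0 = ⊥ := by simp [Lf]

theorem C0.Iio_succ (j : ℕ) : c '' Set.Iio (j + 1) = insert (c j) (c '' Set.Iio j) := by
  rw [← Set.image_insert_eq]
  congr 1
  ext l
  simp only [Set.mem_Iio, Set.mem_insert_iff]
  omega

theorem Lf_one : Lf F c 1 = F ∙ c 0 := by
  rw [Lf, C0.Iio_succ]; simp

theorem Lf_two : Lf F c 2 = l2 F (c 0) (c 1) := by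
  rw [Lf, C0.Iio_succ, C0.Iio_succ]; simp [l2, Set.pair_comm]

theorem mem_Lf_succ {x : M} : x ∈ Lf F c (j + 1) ↔ ∃ a : F, x - a • c j ∈ Lf F c j := by
  rw [Lf, C0.Iio_succ, Submodule.mem_span_insert']
  exact ⟨fun ⟨a, e⟩ => ⟨-a, by rwa [neg_smul, sub_neg_eq_add]⟩,
    fun ⟨a, e⟩ => ⟨-a, by rwa [neg_smul, ← sub_eq_add_neg]⟩⟩

theorem Ch.Lf_top (k : Ch B c) (h : Mo B) (hj : 2 * kk F M ≤ j) : Lf F c j = ⊤ :=
  eq_top_iff.2 ((k.spans h).ge.trans (Lf_mono hj))

theorem Ch.orth_Lf (k : Ch B c) (h : Mo B) (e : i + j = 2 * kk F M) :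
    orth B (Lf F c i) = Lf F c j := by
  ext x
  rw [mem_orth_span, k.mem_Lf h]
  exact ⟨fun a l hl => a _ ⟨l, show l < i by omega, rfl⟩, by
    rintro a _ ⟨l, hl, rfl⟩
    exact a l (by have : l < i := hl; omega)⟩

theorem Ch.ti (k : Ch B c) (h : Mo B) (hj : j ≤ kk F M) : TotIso B (Lf F c j) :=
  fun u hu v hv => (k.orth_Lf h (i := j) (j := 2 * kk F M - j) (by omega)).ge
    (Lf_mono (by omega) hv) u hu

theorem Ch.mx (k : Ch B c) (h : Mo B) : Mx B (Lf F c (kk F M)) :=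
  ⟨k.ti h le_rfl, k.rank_Lf (by omega)⟩

theorem Ch.ext (k : Ch B c) (h : Mo B) (e : ∀ j, j < 2 * kk F M → lin g (c j) = lin g' (c j)) :
    g = g' := lin_ext fun x => by
  rw [k.expand h x, map_sum, map_sum]
  exact Finset.sum_congr rfl fun i hi => by rw [map_smul, map_smul, e i (Finset.mem_range.1 hi)]

theorem Ch.img (k : Ch B c) (g : sIsom B) : Ch B fun j => lin g (c j) := fun i j => by
  rw [lin_isom]; exact k i j

theorem Ch.tr (k : Ch B c) (h : Mo B) (k' : Ch B c') : ∃ g : sIsom B, ∀ j, lin g (c j) = c' j := by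
  obtain ⟨g, e⟩ := h.witt k.li k'.li fun i j => (k' i j).trans (k i j).symm
  refine ⟨g, fun j => ?_⟩
  by_cases hj : j < 2 * kk F M
  · exact e ⟨j, hj⟩
  · rw [k.zero h (not_lt.1 hj), k'.zero h (not_lt.1 hj), map_zero]

theorem Ch.sc1 (k : Ch B c) : Sc B c 1 (AddEquiv.refl M) 1 :=
  ⟨k, ⟨fun _ _ => rfl, fun _ _ => rfl, fun _ _ => rfl⟩, fun _ => rfl⟩

theorem Cf_one : Cf (1 : MulAut (sIsom B)) = ⊤ := eq_top_iff.2 fun _ _ => rfl

theorem Ch.sb (k : Ch B c) : Sb B (n := kk F M)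
    (Sum.elim (fun i => c i) fun i => c (2 * kk F M - 1 - i)) :=
  ⟨rfl, by
    rintro (i | i) (j | j) <;> have := i.2 <;> have := j.2 <;>
      simp only [Sum.elim_inl, Sum.elim_inr, Sum.swap_inl, Sum.swap_inr, k _ _, reduceCtorEq,
        Sum.inl.injEq, Sum.inr.injEq, Fin.ext_iff] <;>
      exact if_congr (by first | omega | exact iff_false_intro (by omega)) rfl rfl⟩

end Model

end Cfsg.Lib.SPW6
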