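import Cfsg.Agent.SPW6.Api
import Cfsg.Agent.SPW6.C0
import Cfsg.Agent.SPW6.C0b
import Cfsg.Agent.SPW6.C1

/-!
# The order of the unitriangular group
-/

set_option autoImplicit false
set_option linter.unusedSectionVars false

namespace Cfsg.Lib.SPW6

open Subgroup Module Cfsg.Lib.Trans Cfsg.Lib.Gold Cfsg.Lib.Class.Form Cfsg.Lib.Class.FAut
open Cfsg.Lib.UM6 (tT tE VW RR Fx St QW Cf mp Semi fa Mp cx re Ot kk Mx)
open Cfsg.Lib.SP7
open scoped commutatorElement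

section Model
variable {F M : Type*} [Field F] [Finite F] [AddCommGroup M] [Module F M] [FiniteDimensional F M]
  {B : M →ₗ[F] M →ₗ[F] F} {c c' : ℕ → M} {α : MulAut (sIsom B)} {Γ : M ≃+ M} {τ : F ≃+* F}
  {g g' : sIsom B} {i j : ℕ}

theorem C2.nf (k : Sc B c α Γ τ) (h : Mo B) (i : ℕ) :
    Nat.card {x : M // x ∈ Nf F c i ∧ Γ x = x} = qf τ ^ (2 * kk F M - 1 - i - i - 1) := by
  rw [← Nat.card_Ioo, ← Nat.card_eq_finsetCard, qf, ← Nat.card_fun]
  refine Nat.card_eq_of_bijective (fun x j => ⟨B (c j) x, (k.fix_iff h).1 x.2.2 j⟩)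
    ⟨fun x y e => Subtype.ext (sub_eq_zero.1 (k.ch.eq_zero h fun j hj => ?_)), fun f => ?_⟩
  · by_cases m : j ∈ Finset.Ioo i (2 * kk F M - 1 - i)
    · rw [map_sub, sub_eq_zero]
      exact congrArg Subtype.val (congrFun e ⟨j, m⟩)
    · rw [Finset.mem_Ioo] at m
      exact (k.ch.mem_Nf h).1 (sub_mem x.2.1 y.2.1) j hj (by omega)
  · have e : ∀ l, B (c l) (∑ j, (f j).1 • c (2 * kk F M - 1 - j)) =
        if m : l ∈ Finset.Ioo i (2 * kk F M - 1 - i) then (f ⟨l, m⟩).1 else 0 := fun l => by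
      rw [map_sum]
      split_ifs with m
      · rw [Finset.sum_eq_single ⟨l, m⟩ (fun j _ n => ?_) (by simp), map_smul, k.ch, if_pos, smul_eq_mul,
          mul_one]
        · rw [Finset.mem_Ioo] at m
          simp only
          omega
        · have := Finset.mem_Ioo.1 j.2
          rw [map_smul, k.ch, if_neg fun e => n (Subtype.ext (by simp only; omega)), smul_zero]
      · refine Finset.sum_eq_zero fun j _ => ?_
        have := Finset.mem_Ioo.1 j.2
        rw [map_smul, k.ch, if_neg fun e => m (Finset.mem_Ioo.2 (by omega)), smul_zero]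
    generalize (∑ j, (f j).1 • c (2 * kk F M - 1 - j)) = x at e
    refine ⟨⟨x, (k.ch.mem_Nf h).2 fun l _ m => ?_, (k.fix_iff h).2 fun l => ?_⟩,
      funext fun j => Subtype.ext ((e j).trans (dif_pos j.2))⟩
    · rw [e, dif_neg (by rw [Finset.mem_Ioo]; omega)]
    · rw [e]
      split_ifs with m
      exacts [(f _).2, map_zero _]

theorem C2.step (k : Sc B c α Γ τ) (h : Mo B) (hi : i < kk F M) :
    Nat.card (Ui B c i ⊓ Cf α : Subgroup (sIsom B)) = qf τ ^ (2 * kk F M - 1 - i - i) *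
      Nat.card (Ui B c (i + 1) ⊓ Cf α : Subgroup (sIsom B)) := by
  have le : Ui B c (i + 1) ≤ Ui B c i := fun g hg => by
    rw [k.ch.mem_Ui h] at hg ⊢
    exact ⟨hg.1, fun j hj => hg.2 j (by omega)⟩
  rw [show 2 * kk F M - 1 - i - i = 2 * kk F M - 1 - i - i - 1 + 1 by omega, pow_succ, ← C2.nf k h, qf,
    ← Nat.card_prod, ← Nat.card_prod]
  refine (Nat.card_eq_of_bijective (fun p => ⟨ee B (c i) p.1.1 p.1.2 * p.2,
    mul_mem (k.ch.ee_mem h hi p.1.1.2.1 _).2 (le p.2.2.1),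
    mul_mem (k.ee_mem h (k.ch.ee_mem h hi p.1.1.2.1 0).1 (k.fix i) p.1.1.2.2 p.1.2.2) p.2.2.2⟩)
    ⟨?_, ?_⟩).symm
  · rintro ⟨⟨⟨x, hx⟩, a⟩, g⟩ ⟨⟨⟨y, hy⟩, b⟩, g'⟩ e
    have e : ee B (c i) x a * g = ee B (c i) y b * g' := congrArg Subtype.val e
    have x0 := (k.ch.ee_mem h hi hx.1 0).1
    have y0 := (k.ch.ee_mem h hi hy.1 0).1
    have e1 : ee B (c i) y b * ee B (c i) x a = g' * (g : sIsom B)⁻¹ := by
      rw [eq_mul_inv_iff_mul_eq, mul_assoc, e, ← mul_assoc, h.ee_sq y0, one_mul]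
    rw [h.ee_mul y0 x0] at e1
    obtain ⟨e2, e3⟩ := k.ch.dec_uniq h hi (add_mem hy.1 hx.1) (e1 ▸ (Ui B c (i + 1)).mul_mem g'.2.1 ((Ui B c (i + 1)).inv_mem g.2.1))
    obtain rfl : y = x := by rwa [← h.vsub, sub_eq_zero] at e2
    rw [h.alt, add_zero] at e3
    obtain rfl : b = a := Subtype.ext (by linear_combination e3 - h.add_self a)
    obtain rfl : g = g' := Subtype.ext (mul_left_cancel e)
    rfl
  · rintro ⟨g, hg⟩
    obtain ⟨x, hx, a, h1, h2, h3⟩ := k.dec h hi hg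
    exact ⟨⟨⟨⟨x, hx, h1⟩, a, h2⟩, _, h3, (Cf α).mul_mem ((Cf α).inv_mem
      (k.ee_mem h (k.ch.ee_mem h hi hx 0).1 (k.fix i) h1 h2)) hg.2⟩, Subtype.ext (mul_inv_cancel_left _ _)⟩

theorem Sc.card (k : Sc B c α Γ τ) (h : Mo B) :
    Nat.card (UU B c ⊓ Cf α : Subgroup (sIsom B)) = qf τ ^ (kk F M ^ 2) := by
  have : ∀ m, m ≤ kk F M →
      Nat.card (Ui B c (kk F M - m) ⊓ Cf α : Subgroup (sIsom B)) = qf τ ^ (m ^ 2) := by
    intro m
    induction m with
    | zero => intro _; rw [Nat.sub_zero, k.ch.Ui_top h, bot_inf_eq, card_bot]; simp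
    | succ m ih =>
      intro hm
      rw [C2.step k h (by omega), show kk F M - (m + 1) + 1 = kk F M - m by omega, ih (by omega), ← pow_add,
        show 2 * kk F M - 1 - (kk F M - (m + 1)) - (kk F M - (m + 1)) = 2 * m + 1 by omega]
      congr 1
      ring
  rw [← this _ le_rfl, Nat.sub_self, k.ch.Ui_zero h]

theorem Ch.card (k : Ch B c) (h : Mo B) : Nat.card (UU B c) = Nat.card F ^ (kk F M ^ 2) := by
  have := k.sc1.card h
  rwa [Cf_one, inf_top_eq, show qf (1 : F ≃+* F) = Nat.card F from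
    Nat.card_congr (Equiv.subtypeUnivEquiv fun _ => rfl)] at this

theorem Ch.two (k : Ch B c) (h : Mo B) : IsPGroup 2 (UU B c) := by
  obtain ⟨n, -, e⟩ := h.q_pow
  exact IsPGroup.of_card (by rw [k.card h, e, ← pow_mul])

theorem card_sp (h : Mo B) : Nat.card (sIsom B) =
    Nat.card F ^ (kk F M ^ 2) * ∏ i ∈ Finset.range (kk F M), (Nat.card F ^ (2 * (i + 1)) - 1) := by
  haveI := Fintype.ofFinite F
  obtain ⟨e⟩ := LIFT.iso_Sp h
  rw [Nat.card_congr e.toEquiv, Nat.card_eq_fintype_card (α := F)]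
  exact Class.card_symplecticGroup _

theorem Ch.syl (k : Ch B c) (h : Mo B) : IsSylowIn 2 (UU B c) ⊤ := by
  refine ⟨le_top, k.two h, fun e => ?_⟩
  have e1 := (UU B c).card_mul_index
  rw [card_sp h, k.card h] at e1
  rw [relIndex_top_right, Nat.eq_of_mul_eq_mul_left (pow_pos Nat.card_pos _) e1,
    Prime.dvd_finsetProd_iff Nat.prime_two.prime] at e
  obtain ⟨i, -, e⟩ := e
  obtain ⟨n, hn, e2⟩ := h.q_pow
  rw [e2, ← pow_mul] at e
  have e3 : 2 ∣ 2 ^ (n * (2 * (i + 1))) := dvd_pow_self 2 (by positivity)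
  have e4 : 0 < 2 ^ (n * (2 * (i + 1))) := by positivity
  omega

end Model

end Cfsg.Lib.SPW6
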