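import Cfsg.Agent.SPW6.C0b
import Cfsg.Agent.SPW6.C7
import Cfsg.Agent.Known.FinFieldAut

/-!
# Standard subgroups of type `Sp_{2k}(2ⁿ)`, type IV: field automorphisms
-/

set_option autoImplicit false
set_option linter.unusedSectionVars false

namespace Cfsg.Lib.SPW6

open Subgroup Module Cfsg.Lib.Trans Cfsg.Lib.Gold Cfsg.Lib.Class.Form Cfsg.Lib.Class.FAut
open Cfsg.Lib.UM6 (tT tE VW RR Fx St QW Cf mp Semi fa Mp cx re Ot kk Mx)
open Cfsg.Lib.SP7
open Cfsg.Lib.SG2 (Uq Top)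
open Cfsg.Lib.Comp (Tw)
open Cfsg.Lib.Chev.SpAm (Ix Sp bv idx Fn FixI pl TM)
open scoped commutatorElement

section Model
variable {F M : Type*} [Field F] [Finite F] [AddCommGroup M] [Module F M] [FiniteDimensional F M]
  {B : M →ₗ[F] M →ₗ[F] F} {c c' : ℕ → M} {α : MulAut (sIsom B)} {Γ : M ≃+ M} {τ : F ≃+* F}
  {γ : (F ≃+* F) →* MulAut (sIsom B)} {g g' : sIsom B} {i j : ℕ}

theorem C8.ext (k : Ch B c) (h : Mo B) {x y : M} (e : ∀ l, B (c l) x = B (c l) y) : x = y :=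
  sub_eq_zero.1 (k.eq_zero h fun l _ => by rw [map_sub, e, sub_self])

theorem C8.form (k : Ch B c) (h : Mo B) (x y : M) :
    B x y = ∑ i ∈ Finset.range (2 * kk F M), B (c (2 * kk F M - 1 - i)) x * B (c i) y := by
  conv_lhs => rw [k.expand h x]
  simp only [map_sum, map_smul, LinearMap.sum_apply, LinearMap.smul_apply, smul_eq_mul]

theorem C8.ex (k : Ch B c) (h : Mo B) (τ : F ≃+* F) (x : M) :
    ∃ y, ∀ l, B (c l) y = τ (B (c l) x) := by
  refine ⟨∑ i ∈ Finset.range (2 * kk F M), τ (B (c (2 * kk F M - 1 - i)) x) • c i, fun l => ?_⟩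
  by_cases hl : l < 2 * kk F M
  swap
  · simp [k.zero h (not_lt.1 hl)]
  rw [map_sum, Finset.sum_eq_single (2 * kk F M - 1 - l)]
  · rw [map_smul, C0.one k (by omega), smul_eq_mul, mul_one,
      show 2 * kk F M - 1 - (2 * kk F M - 1 - l) = l by omega]
  · intro j _ hj
    rw [map_smul, C0.zero k (by omega), smul_zero]
  · intro hn
    exact (hn (Finset.mem_range.2 (by omega))).elim

theorem C8.sc (k : Ch B c) (h : Mo B) (τ : F ≃+* F) : ∃ α Γ, Sc B c α Γ τ := by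
  choose f hf using C8.ex k h
  let Γ : M ≃+ M :=
    { toFun := f τ
      invFun := f τ.symm
      left_inv := fun x => C8.ext k h fun l => by rw [hf, hf, τ.symm_apply_apply]
      right_inv := fun x => C8.ext k h fun l => by rw [hf, hf, τ.apply_symm_apply]
      map_add' := fun x y => C8.ext k h fun l => by simp only [hf, map_add] }
  have hΓ : ∀ x l, B (c l) (Γ x) = τ (B (c l) x) := hf τ
  obtain ⟨α, hα⟩ := h.of_semi Γ τ
    (fun a x => C8.ext k h fun l => by simp only [hΓ, map_smul, smul_eq_mul, map_mul])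
    fun x y => by rw [C8.form k h, C8.form k h x]; simp only [hΓ, map_sum, map_mul]
  exact ⟨α, Γ, k, hα, fun j => C8.ext k h fun l => by rw [hΓ, k]; split_ifs <;> simp⟩

theorem C8.uniq (k : Sc B c α Γ τ) (h : Mo B) {β : MulAut (sIsom B)} {Δ : M ≃+ M}
    (k' : Sc B c β Δ τ) : α = β := by
  obtain rfl : Γ = Δ := AddEquiv.ext fun x => C8.ext k.ch h fun l => by
    rw [C0b.co k, C0b.co k']
  exact k.semi.ext k'.semi

theorem Ch.fr (k : Ch B c) (h : Mo B) : ∃ γ, Fr B c γ := by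
  choose α Γ e using C8.sc k h
  exact ⟨MonoidHom.mk' α fun τ ρ => C8.uniq (e (τ * ρ)) h ⟨k, (e τ).semi.mul (e ρ).semi,
    fun j => by rw [AddEquiv.trans_apply, (e ρ).fix, (e τ).fix]⟩, k, fun τ => ⟨_, e τ⟩⟩

theorem Fr.fa_eq (k : Fr B c γ) (h : Mo B) (τ : F ≃+* F) : fa (γ τ) = τ :=
  let ⟨_, e⟩ := k.sc τ; h.fa_eq e.semi

theorem Fr.dec (k : Fr B c γ) (h : Mo B) (α : MulAut (sIsom B)) :
    ∃ l, α = MulAut.conj l * γ (fa α) := by
  obtain ⟨l, e⟩ := h.inner (α := α * (γ (fa α))⁻¹) (by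
    rw [h.fa_mul, h.fa_inv, k.fa_eq h, mul_inv_cancel])
  exact ⟨l, by rw [← e, inv_mul_cancel_right]⟩

theorem Fr.h1 (k : Fr B c γ) (h : Mo B) {u : sIsom B} (hu : u ∈ UU B c)
    (e : (MulAut.conj u * γ τ) ^ orderOf τ = 1) : ∃ l ∈ UU B c, l * u * (γ τ l)⁻¹ = 1 := by
  obtain ⟨Γ, s⟩ := k.sc τ
  have s1 := (UM6.semi_conj u).mul s.semi
  rw [one_mul] at s1
  obtain ⟨Δ, s2, e2⟩ := s1.pow (orderOf τ)
  rw [e] at s2
  have e3 := (h.semi_uniq s2 k.ch.sc1.semi).1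
  obtain ⟨l, hl, e4⟩ := k.ch.fix_flag h s1 (fun x => by rw [← e2, e3]; rfl) fun j => by
    rw [AddEquiv.trans_apply, s.fix]; exact C0b.mem_U.1 hu j
  have e5 : u * γ τ l = l := k.ch.ext h fun j _ => by
    rw [lin_mul, C0b.act s]; exact e4 j
  exact ⟨l⁻¹, inv_mem hl, by rw [map_inv, inv_inv, mul_assoc, e5, inv_mul_cancel]⟩

theorem Sc.conj (k : Sc B c α Γ τ) (h : Mo B) {β : MulAut (sIsom B)} {Δ : M ≃+ M}
    (k' : Sc B c' β Δ τ) : ∃ l, β = MulAut.conj l * α * (MulAut.conj l)⁻¹ := by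
  obtain ⟨l, e⟩ := k.ch.tr h k'.ch
  have s := ((UM6.semi_conj l).mul k.semi).mul (UM6.semi_conj l).inv
  rw [one_mul, inv_one, mul_one] at s
  refine ⟨l, C8.uniq k' h ⟨k'.ch, s, fun j => ?_⟩⟩
  rw [← e, AddEquiv.trans_apply, AddEquiv.trans_apply]
  change lin l (Γ ((lin l).symm (lin l (c j)))) = _
  rw [LinearEquiv.symm_apply_apply, k.fix]

theorem qf_pow (τ : F ≃+* F) : qf τ ^ orderOf τ = Nat.card F := UM6.card_fixed τ

theorem qf_one : qf (1 : F ≃+* F) = Nat.card F := by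
  rw [← qf_pow (1 : F ≃+* F), orderOf_one, pow_one]

theorem two_le_qf (τ : F ≃+* F) : 2 ≤ qf τ :=
  have : Nontrivial {a : F // τ a = a} :=
    ⟨⟨0, map_zero τ⟩, ⟨1, map_one τ⟩, fun e => zero_ne_one (congrArg Subtype.val e)⟩
  Finite.one_lt_card

theorem cyc_AF : IsCyclic (AF F) := Known.isCyclic_ringAut (F := F)

theorem card_AF (h : (2 : F) = 0) : Nat.card F = 2 ^ Nat.card (AF F) := by
  obtain ⟨n, -, hn⟩ := SG2.exists_two_pow h
  have := Fintype.ofFinite F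
  have e : Nat.card (AF F) = n :=
    Known.card_ringAut (p := 2) (by rwa [← Nat.card_eq_fintype_card])
  rw [e, hn]

theorem exists_kap (h1 : τ * τ = 1) (h2 : τ ≠ 1) : ∃ κ : F, κ + τ κ = 1 := by
  obtain ⟨a, ha⟩ : ∃ a : F, a + τ a ≠ 0 := by
    by_contra! k
    have two := k 1
    rw [map_one] at two
    exact h2 (RingEquiv.ext fun a => show τ a = a by linear_combination k a - a * two)
  have e : τ (τ a) = a := DFunLike.congr_fun h1 a
  refine ⟨a / (a + τ a), ?_⟩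
  rw [map_div₀, map_add, e, add_comm (τ a), ← add_div, div_self ha]

end Model

end Cfsg.Lib.SPW6
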