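import Cfsg.Agent.SPW6.Api

/-!
# The quadratic extension in characteristic two
-/

set_option autoImplicit false
set_option linter.unusedSectionVars false

namespace Cfsg.Lib.SPW6

open Polynomial

section Quad
variable {F K : Type*} [Field F] [Finite F] [Field K] {ι : F →+* K} {γ : K} {β : F} {p₀ p₁ : K → F}
  {τ : K ≃+* K}

namespace QK

theorem mk {ι : F →+* K} {γ : K} {β : F} (h2 : (2 : F) = 0) (hβ : ∀ s : F, s * s + s ≠ β)
    (sq : γ * γ = γ + ι β) [Finite K] (hc : Nat.card K = Nat.card F ^ 2) :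
    ∃ (p₀ p₁ : K → F) (τ : K ≃+* K), QE ι γ β p₀ p₁ τ := by
  have k2 : (2 : K) = 0 := by rw [← map_ofNat ι 2, h2, map_zero]
  have inj : Function.Injective fun x : F × F => ι x.1 + γ * ι x.2 := fun x y e => by
    have e : ι x.1 + γ * ι x.2 = ι y.1 + γ * ι y.2 := e
    have e2 : x.2 = y.2 := by
      by_contra n
      have n' : ι (x.2 - y.2) ≠ 0 := (map_ne_zero ι).2 (sub_ne_zero.2 n)
      have g : γ = ι ((y.1 - x.1) / (x.2 - y.2)) := by
        rw [map_div₀, eq_div_iff n', map_sub, map_sub]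
        linear_combination e
      refine hβ ((y.1 - x.1) / (x.2 - y.2)) (ι.injective ?_)
      rw [map_add, map_mul, ← g]
      linear_combination sq + γ * k2
    exact Prod.ext (ι.injective (by rw [e2] at e; exact add_right_cancel e)) e2
  let e : F × F ≃ K := Equiv.ofBijective _ (inj.bijective_of_nat_card_le (by
    rw [hc, Nat.card_prod, sq_eq]))
  have d : ∀ a, a = ι (e.symm a).1 + γ * ι (e.symm a).2 := fun a => (e.apply_symm_apply a).symm
  have s : ∀ a b, e.symm (ι a + γ * ι b) = (a, b) := fun a b => e.symm_apply_apply (a, b)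
  let t : K →+* K :=
    { toFun := fun a => a + ι (e.symm a).2
      map_one' := by simpa using congrArg (fun x => ι x.2) (s 1 0)
      map_zero' := by simpa using congrArg (fun x => ι x.2) (s 0 0)
      map_add' := fun a b => by
        obtain ⟨⟨a0, a1⟩, rfl⟩ := e.surjective a
        obtain ⟨⟨b0, b1⟩, rfl⟩ := e.surjective b
        have : e (a0, a1) + e (b0, b1) = e (a0 + b0, a1 + b1) := by
          simp only [e, Equiv.ofBijective_apply, map_add]; ring
        rw [this, e.symm_apply_apply, e.symm_apply_apply, e.symm_apply_apply, ← this, map_add]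
        ring
      map_mul' := fun a b => by
        obtain ⟨⟨a0, a1⟩, rfl⟩ := e.surjective a
        obtain ⟨⟨b0, b1⟩, rfl⟩ := e.surjective b
        have : e (a0, a1) * e (b0, b1) =
            e (a0 * b0 + β * (a1 * b1), a0 * b1 + a1 * b0 + a1 * b1) := by
          simp only [e, Equiv.ofBijective_apply, map_add, map_mul]
          linear_combination ι a1 * ι b1 * sq
        rw [this, e.symm_apply_apply, e.symm_apply_apply, e.symm_apply_apply, ← this]
        simp only [e, Equiv.ofBijective_apply, map_add, map_mul]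
        linear_combination (-γ * ι a1 * ι b1) * k2 }
  refine ⟨fun a => (e.symm a).1, fun a => (e.symm a).2,
    RingEquiv.ofBijective t (Finite.injective_iff_bijective.1 t.injective), h2, sq, d,
    fun a b => by rw [s], fun a b => by rw [s], fun a => ?_, ?_⟩
  · simpa [t] using congrArg (fun x => ι x.2) (s a 0)
  · simpa [t] using congrArg (fun x => ι x.2) (s 0 1)
where sq_eq : Nat.card F ^ 2 = Nat.card F * Nat.card F := pow_two _

end QK

theorem exists_QE (h2 : (2 : F) = 0) (hβ : ∀ s : F, s * s + s ≠ β) :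
    ∃ (K : Type) (_ : Field K) (_ : Fintype K) (ι : F →+* K) (γ : K) (p₀ p₁ : K → F) (τ : K ≃+* K),
      QE ι γ β p₀ p₁ τ ∧ Fintype.card K = Nat.card F ^ 2 := by
  let p : F[X] := X ^ 2 + X + C β
  have d : p.natDegree = 2 := by unfold p; compute_degree!
  have m : p.Monic := by unfold p; monicity!
  have : Fact (Irreducible p) := ⟨(m.irreducible_iff_roots_eq_zero_of_degree_le_three (by omega)
    (by omega)).2 (Multiset.eq_zero_of_forall_notMem fun s hs => hβ s (by
      have := (mem_roots m.ne_zero).1 hs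
      simp only [p, IsRoot, eval_add, eval_pow, eval_X, eval_C] at this
      linear_combination this - β * h2))⟩
  have := (AdjoinRoot.powerBasis m.ne_zero).finite
  have := Module.finite_of_finite F (M := AdjoinRoot p)
  have c : Nat.card (AdjoinRoot p) = Nat.card F ^ 2 := by
    rw [Module.natCard_eq_pow_finrank (K := F), (AdjoinRoot.powerBasis m.ne_zero).finrank,
      AdjoinRoot.powerBasis_dim, d]
  let f : Shrink.{0} (AdjoinRoot p) ≃+* AdjoinRoot p := Shrink.ringEquiv _
  have c' := (Nat.card_congr f.toEquiv).trans c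
  obtain ⟨p₀, p₁, τ, k⟩ := QK.mk (ι := f.symm.toRingHom.comp (AdjoinRoot.of p))
    (γ := f.symm (AdjoinRoot.root p)) h2 hβ (by
      rw [← map_mul, RingHom.comp_apply, RingEquiv.toRingHom_eq_coe, RingHom.coe_coe, ← map_add]
      have := AdjoinRoot.eval₂_root p
      simp only [p, eval₂_add, eval₂_pow, eval₂_X, eval₂_C] at this
      have k2 : (2 : AdjoinRoot p) = 0 := by rw [← map_ofNat (AdjoinRoot.of p) 2, h2, map_zero]
      congr 1
      linear_combination this - (AdjoinRoot.root p + AdjoinRoot.of p β) * k2) c'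
  let _ := Fintype.ofFinite (Shrink.{0} (AdjoinRoot p))
  exact ⟨_, _, inferInstance, _, _, p₀, p₁, τ, k, by rw [← Nat.card_eq_fintype_card, c']⟩

theorem QE.twoK (k : QE ι γ β p₀ p₁ τ) : (2 : K) = 0 := by rw [← map_ofNat ι 2, k.two, map_zero]

theorem QK.add (k : QE ι γ β p₀ p₁ τ) (a b : K) :
    a + b = ι (p₀ a + p₀ b) + γ * ι (p₁ a + p₁ b) := by
  rw [map_add, map_add]
  linear_combination k.dec a + k.dec b

theorem QK.mul (k : QE ι γ β p₀ p₁ τ) (a b : K) : a * b = ι (p₀ a * p₀ b + β * (p₁ a * p₁ b)) +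
    γ * ι (p₀ a * p₁ b + p₁ a * p₀ b + p₁ a * p₁ b) := by
  simp only [map_add, map_mul]
  linear_combination b * k.dec a + (ι (p₀ a) + γ * ι (p₁ a)) * k.dec b +
    ι (p₁ a) * ι (p₁ b) * k.sq

theorem QK.tau (k : QE ι γ β p₀ p₁ τ) (a : K) : τ a = ι (p₀ a + p₁ a) + γ * ι (p₁ a) := by
  rw [congrArg τ (k.dec a), map_add, map_mul, k.tι, k.tι, k.tγ, map_add]
  ring

theorem QE.p0_add (k : QE ι γ β p₀ p₁ τ) (a b : K) : p₀ (a + b) = p₀ a + p₀ b := by
  rw [QK.add k, k.p0]

theorem QE.p1_add (k : QE ι γ β p₀ p₁ τ) (a b : K) : p₁ (a + b) = p₁ a + p₁ b := by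
  rw [QK.add k, k.p1]

theorem QE.p0_mul (k : QE ι γ β p₀ p₁ τ) (a b : K) : p₀ (a * b) = p₀ a * p₀ b + β * (p₁ a * p₁ b) := by
  rw [QK.mul k, k.p0]

theorem QE.p1_mul (k : QE ι γ β p₀ p₁ τ) (a b : K) :
    p₁ (a * b) = p₀ a * p₁ b + p₁ a * p₀ b + p₁ a * p₁ b := by
  rw [QK.mul k, k.p1]

theorem QE.p0_ι (k : QE ι γ β p₀ p₁ τ) (a : F) : p₀ (ι a) = a := by simpa using k.p0 a 0

theorem QE.p1_ι (k : QE ι γ β p₀ p₁ τ) (a : F) : p₁ (ι a) = 0 := by simpa using k.p1 a 0

theorem QE.p0_γ (k : QE ι γ β p₀ p₁ τ) : p₀ γ = 0 := by simpa using k.p0 0 1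

theorem QE.p1_γ (k : QE ι γ β p₀ p₁ τ) : p₁ γ = 1 := by simpa using k.p1 0 1

theorem QE.p0_τ (k : QE ι γ β p₀ p₁ τ) (a : K) : p₀ (τ a) = p₀ a + p₁ a := by rw [QK.tau k, k.p0]

theorem QE.p1_τ (k : QE ι γ β p₀ p₁ τ) (a : K) : p₁ (τ a) = p₁ a := by rw [QK.tau k, k.p1]

theorem QE.ne (k : QE ι γ β p₀ p₁ τ) : τ ≠ 1 ∧ γ ≠ 0 ∧ γ ≠ 1 := by
  refine ⟨fun e => ?_, fun e => ?_, fun e => ?_⟩
  · simpa [e] using k.tγ
  · have := k.p1_ι 0
    rw [map_zero, ← e, k.p1_γ] at this
    exact one_ne_zero this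
  · have := k.p1_ι 1
    rw [map_one, ← e, k.p1_γ] at this
    exact one_ne_zero this

theorem QK.inj (h2 : (2 : F) = 0) : Function.Injective fun b : F => b * b := fun a b e => by
  have e : a * a = b * b := e
  have : (a - b) ^ 2 = 0 := by linear_combination e + (b * b - a * b) * h2
  exact sub_eq_zero.1 (pow_eq_zero_iff two_ne_zero |>.1 this)

theorem sr_sq (h2 : (2 : F) = 0) (a : F) : sr a * sr a = a := by
  have h : ∃ b, b * b = a := Finite.injective_iff_surjective.1 (QK.inj h2) a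
  rw [sr, dif_pos h]
  exact h.choose_spec

theorem sr_eq (h2 : (2 : F) = 0) {a b : F} (e : b * b = a) : sr a = b :=
  QK.inj h2 ((sr_sq h2 a).trans e.symm)

theorem sr_add (h2 : (2 : F) = 0) (a b : F) : sr (a + b) = sr a + sr b :=
  sr_eq h2 (by linear_combination sr_sq h2 a + sr_sq h2 b + sr a * sr b * h2)

theorem sr_zero (h2 : (2 : F) = 0) : sr (0 : F) = 0 := sr_eq h2 (mul_zero _)

theorem sr_one (h2 : (2 : F) = 0) : sr (1 : F) = 1 := sr_eq h2 (mul_one _)

end Quad

end Cfsg.Lib.SPW6
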