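import Cfsg.Agent.SPW6.Api
import Cfsg.Agent.SPW6.ST1
import Cfsg.Agent.SPW6.ST2

/-!
# Steinberg relations of type `C_n` in characteristic two: the rank one members of the amalgam
-/

set_option autoImplicit false
set_option linter.unusedSectionVars false

namespace Cfsg.Lib.SPW6

open Subgroup Module Cfsg.Lib.Trans Cfsg.Lib.Gold Cfsg.Lib.Class.Form Cfsg.Lib.Class.FAut
open Cfsg.Lib.UM6 (tT tE VW RR Fx St QW Cf mp Semi fa Mp cx re Ot kk Mx)
open Cfsg.Lib.SP7
open Cfsg.Lib.SG2 (Uq Top)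
open Cfsg.Lib.Comp (Tw)
open Cfsg.Lib.Chev.SpAm (Ix Sp bv idx Fn FixI pl TM)
open scoped commutatorElement

variable {G K : Type*} [Group G] [Field K] [Finite K] {n : ℕ} {x : Ix n → Ix n → K → G}
  {y : Ix n → K → G} {a c : Ix n} {k l : Fin n}

open Chev.SpAm Sum

namespace ST3

theorem gS_le {S : Subgroup (Sp n K × G)} (h : ∀ a s, idx a = k → gY y a s ∈ S) : gS y k ≤ S :=
  sup_le ((closure_le _).2 (by rintro _ ⟨s, rfl⟩; exact h _ s rfl))
    ((closure_le _).2 (by rintro _ ⟨s, rfl⟩; exact h _ s rfl))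

theorem l_mem (s : K) : gY y (inl k) s ∈ gS y k := mem_sup_left (subset_closure ⟨s, rfl⟩)

theorem r_mem (s : K) : gY y (inr k) s ∈ gS y k := mem_sup_right (subset_closure ⟨s, rfl⟩)

theorem cases (e : idx a = k) : a = inl k ∨ a = inr k := by
  rcases a with a | a
  exacts [Or.inl (congrArg inl (Fin.ext e)), Or.inr (congrArg inr (Fin.ext e))]

theorem mY_fix (h2 : (2 : K) = 0) (e : idx a = k) (s : K) : mY a s ∈ FixI (pl k)ᶜ :=
  mem_FixI.2 fun i hi => by
    rw [mY_smul h2, bv_apply, if_neg, mul_zero, zero_smul, add_zero]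
    rintro rfl
    exact hi (by rwa [Set.mem_setOf_eq, idx_swap])

theorem ext_pl {v w : Ix n → K} (hv : v ∈ Supp (pl k)) (hw : w ∈ Supp (pl k))
    (h1 : v (inl k) = w (inl k)) (h2 : v (inr k) = w (inr k)) : v = w := by
  funext i
  by_cases e : idx i = k
  · rcases cases e with rfl | rfl
    exacts [h1, h2]
  · rw [mem_Supp.1 hv i e, mem_Supp.1 hw i e]

theorem supp {A : Sp n K} (hA : A ∈ FixI (pl k)ᶜ) (e : idx a = k) :
    A • (bv a : Ix n → K) ∈ Supp (pl k) :=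
  FixI.smul_mem hA (fun i hi => by rwa [Set.mem_compl_iff, Set.mem_setOf_eq, idx_swap])
    (bv_mem_Supp e)

theorem eq_of {A B : Sp n K} (hA : A ∈ FixI (pl k)ᶜ) (hB : B ∈ FixI (pl k)ᶜ)
    (h1 : A • (bv (inl k) : Ix n → K) = B • bv (inl k))
    (h2 : A • (bv (inr k) : Ix n → K) = B • bv (inr k)) : A = B := by
  refine (inv_mul_eq_one.1 (FixI.eq_one (mem_FixI.2 fun i _ => ?_))).symm
  rw [mul_smul, inv_smul_eq_iff]
  by_cases e : idx i = k
  · rcases cases e with rfl | rfl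
    exacts [h1, h2]
  · rw [mem_FixI.1 hA i e, mem_FixI.1 hB i e]

end ST3

open ST3

theorem StC.S_le (h : StC x y) (k : Fin n) : ∀ g ∈ gS y k, g.1 ∈ FixI (pl k)ᶜ := fun _ hg =>
  gS_le (S := (FixI (pl k)ᶜ).comap (MonoidHom.fst _ _)) (fun _ s e => mY_fix h.two e s) hg

theorem StC.S_ex (h : StC x y) (k : Fin n) : ∀ A ∈ FixI (pl k)ᶜ, ∃ g ∈ gS y k, g.1 = A := by
  have h2 := h.two
  let H : Subgroup (Sp n K) := (gS y k).map (MonoidHom.fst _ _)
  have m1 : ∀ s, mY (inl k) s ∈ H := fun s => ⟨_, l_mem s, rfl⟩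
  have m2 : ∀ s, mY (inr k) s ∈ H := fun s => ⟨_, r_mem s, rfl⟩
  have f1 := mY_fix (a := inl k) (k := k) h2 rfl
  have f2 := mY_fix (a := inr k) (k := k) h2 rfl
  have c1 : ∀ A ∈ FixI (pl k)ᶜ, A • (bv (inl k) : Ix n → K) = bv (inl k) → A ∈ H := fun A hA e => by
    have e1 : (A • (bv (inr k) : Ix n → K)) (inr k) = (bv (inr k) : Ix n → K) (inr k) :=
      FixI.apply (T := {inl k}) (mem_FixI.2 (by rintro _ rfl; exact e)) _ rfl
    rw [eq_of hA (f1 ((A • (bv (inr k) : Ix n → K)) (inl k))) (by rw [e, mY_smul h2]; simp [bv_apply])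
      (ext_pl (supp hA rfl) (supp (f1 _) rfl) (by rw [mY_smul h2]; simp [bv_apply])
        (by rw [e1, mY_smul h2]; simp [bv_apply]))]
    exact m1 _
  have c2 : ∀ A ∈ FixI (pl k)ᶜ, (A • (bv (inl k) : Ix n → K)) (inr k) ≠ 0 → A ∈ H := fun A hA e => by
    set w := A • (bv (inl k) : Ix n → K) with hw
    have hB := mul_mem (mul_mem (f2 (-w (inr k))) (f1 ((1 - w (inl k)) / w (inr k)))) hA
    have := c1 _ hB (ext_pl (supp hB rfl) (bv_mem_Supp rfl) (by
      rw [mul_smul, mul_smul, ← hw, mY_smul h2, mY_smul h2]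
      simp [bv_apply, e]) (by
      rw [mul_smul, mul_smul, ← hw, mY_smul h2, mY_smul h2]
      simp [bv_apply, e]))
    exact (mul_mem_cancel_left (mul_mem (m2 _) (m1 _))).1 this
  intro A hA
  by_cases e : (A • (bv (inl k) : Ix n → K)) (inr k) = 0
  · refine (mul_mem_cancel_left (m2 1)).1 (c2 _ (mul_mem (f2 1) hA) fun e1 => ?_)
    rw [mul_smul, mY_smul h2] at e1
    have e2 : A • (bv (inl k) : Ix n → K) = 0 :=
      ext_pl (supp hA rfl) (zero_mem _) (by simpa [bv_apply, e] using e1) e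
    exact bv_ne_zero _ ((smul_eq_zero_iff_eq A).1 e2)
  · exact c2 A hA e

theorem StC.fnS (h : StC x y) (hn : 2 ≤ n) (k : Fin n) : Fn (gS y k) := fun g hg e => by
  have S := h.gr.sl2 hn (inl k)
  have e1 : MonoidHom.fst _ _ g = 1 := e
  rcases S.eq_h (π := MonoidHom.fst _ _) (fun a b e2 => by
      have e3 : mY (inl k) a = mY (inr k) b := e2
      have := congrArg (fun A : Sp n K => (A • (bv (inr k) : Ix n → K)) (inl k)) e3
      simpa [mY_smul h.two, bv_apply] using this) hg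
    (fun _ => e1 ▸ Commute.one_left _) (fun _ => e1 ▸ Commute.one_left _) with e2 | e2
  · exact e2
  · rw [e2, ST2.neg_eq h.two, S.h_one]

theorem StC.SS (h : StC x y) (hn : 2 ≤ n) (e : k ≠ l) : Fn (gS y k ⊔ gS y l) := fun g hg e1 => by
  have hc : gS y k ≤ Cs (gS y l) := gS_le fun a s ha => le_Cs_comm.1
    (gS_le (S := Cs (zpowers (gY y a s))) fun c r hc => by
      rw [Cs_zpowers, mem_C1]
      refine (h.gr.yy c a r s ?_).eq
      rintro rfl
      exact e (Fin.ext (by rw [← ha, idx_swap, hc]))) (mem_zpowers _)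
  obtain ⟨a, ha, b, hb, rfl⟩ := (SG2.mem_sup_Cs hc).1 hg
  have e2 : a.1 = b.1⁻¹ := eq_inv_of_mul_eq_one_left e1
  have e3 : a.1 = 1 := FixI.eq_one (mem_FixI.2 fun i _ => by
    by_cases hi : idx i = k
    · rw [e2]
      exact mem_FixI.1 (inv_mem (h.S_le l b hb)) i fun e4 => e (Fin.ext (hi.symm.trans e4))
    · exact mem_FixI.1 (h.S_le k a ha) i hi)
  rw [h.fnS hn k a ha e3, h.fnS hn l b hb (inv_eq_one.1 (e2.symm.trans e3)), one_mul]

end Cfsg.Lib.SPW6
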