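import Cfsg.Agent.SPW6.ST1
import Cfsg.Agent.SPW6.ST2

/-!
# Steinberg relations of type `C_n` in characteristic two: the abelian members of the amalgam
-/

set_option autoImplicit false
set_option linter.unusedSectionVars false

namespace Cfsg.Lib.SPW6

open Subgroup Module Cfsg.Lib.Trans Cfsg.Lib.Gold Cfsg.Lib.Class.Form Cfsg.Lib.Class.FAut
open Cfsg.Lib.UM6 (tT tE VW RR Fx St QW Cf mp Semi fa Mp cx re Ot kk Mx)
open Cfsg.Lib.SP7
open Cfsg.Lib.SG2 (Uq Top)
open Cfsg.Lib.Comp (Tw)
open Cfsg.Lib.Chev.SpAm (Ix Sp bv idx Fn FixI pl TM)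
open scoped commutatorElement

variable {G K : Type*} [Group G] [Field K] [Finite K] {n : ℕ} {x : Ix n → Ix n → K → G}
  {y : Ix n → K → G} {a c : Ix n} {k l : Fin n}

namespace ST4

open Cfsg.Lib.Chev.SpAm Sum

theorem fn_of {Γ H ι : Type*} [Group Γ] [Group H] [Fintype ι] [DecidableEq ι] (Z : ι → K → Γ × H)
    (add : ∀ p s r, Z p (s + r) = Z p s * Z p r)
    (com : ∀ p q, p ≠ q → ∀ s r, Commute (Z p s) (Z q r)) (W : Subgroup Γ) (e : Γ → ι → K)
    (em : ∀ a ∈ W, ∀ b ∈ W, e (a * b) = e a + e b) (hW : ∀ p s, (Z p s).1 ∈ W)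
    (he : ∀ p s, e (Z p s).1 = Pi.single p s) : Fn (closure {g | ∃ p s, g = Z p s}) := by
  let Z' : ι → Multiplicative K →* Γ × H := fun p =>
    MonoidHom.mk' (fun s => Z p s.toAdd) fun s r => add p _ _
  let Φ : (ι → Multiplicative K) →* Γ × H := MonoidHom.noncommPiCoprod Z' fun p q e s r => com p q e _ _
  let e' : Γ → ι → Multiplicative K := fun a p => Multiplicative.ofAdd (e a p)
  have m : ∀ a ∈ W, ∀ b ∈ W, e' (a * b) = e' a * e' b := fun a ha b hb => funext fun p => by
    simp [e', em a ha b hb]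
  have o : e' 1 = 1 := by
    have := m 1 (one_mem _) 1 (one_mem _)
    rwa [one_mul, left_eq_mul] at this
  have key : ∀ g ∈ closure {g | ∃ p s, g = Z p s}, g.1 ∈ W ∧ Φ (e' g.1) = g := fun g hg => by
    induction hg using closure_induction with
    | mem g hg =>
      obtain ⟨p, s, rfl⟩ := hg
      refine ⟨hW p s, ?_⟩
      have : e' (Z p s).1 = Pi.mulSingle p (Multiplicative.ofAdd s) := funext fun q => by
        simp only [e', he]
        by_cases c : q = p
        · subst c; simp
        · simp [c]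
      rw [this]
      exact MonoidHom.noncommPiCoprod_mulSingle ..
    | one => exact ⟨one_mem _, by rw [Prod.fst_one, o, map_one]⟩
    | mul a b _ _ ha hb =>
      exact ⟨mul_mem ha.1 hb.1, by rw [Prod.fst_mul, m _ ha.1 _ hb.1, map_mul, ha.2, hb.2]⟩
    | inv a _ ha =>
      refine ⟨inv_mem ha.1, eq_inv_of_mul_eq_one_left ?_⟩
      nth_rw 2 [← ha.2]
      rw [← map_mul, Prod.fst_inv, ← m _ (inv_mem ha.1) _ ha.1, inv_mul_cancel, o, map_one]
  intro g hg g1
  rw [← (key g hg).2, g1, o, map_one]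

theorem uniq {A : Sp n K} (hl : (l : ℕ) = k + 1) (hA : A ∈ FixI (TM k))
    (h1 : (A • (bv (inr k) : Ix n → K)) (inl k) = 0) (h2 : (A • (bv (inr k) : Ix n → K)) (inl l) = 0)
    (h3 : (A • (bv (inr l) : Ix n → K)) (inl l) = 0) : A = 1 := by
  have c : ∀ j : Ix n, j.swap ∉ TM k → j = inl k ∨ j = inl l := by
    rintro (j | j) e <;> simp [Fin.ext_iff] at e ⊢
    omega
  have e1 : A • (bv (inr k) : Ix n → K) = bv (inr k) := funext fun j => by
    by_cases e : j.swap ∈ TM k
    · exact FixI.apply hA _ e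
    · rcases c j e with rfl | rfl <;> simp [*, bv_apply]
  have h4 := Bf_smul A (bv (inr k)) (bv (inr l))
  rw [e1, Bf_inr, Bf_inr] at h4
  refine FixI.eq_one fun i _ => ?_
  by_cases e : i ∈ TM k
  · exact hA i e
  rcases c i.swap (by simpa using e) with e | e
  · rw [← Sum.swap_swap i, e]; exact e1
  · rw [← Sum.swap_swap i, e]
    funext j
    by_cases e : j.swap ∈ TM k
    · exact FixI.apply hA _ e
    · rcases c j e with rfl | rfl
      · exact h4
      · simpa [bv_apply] using h3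

end ST4

open Cfsg.Lib.Chev.SpAm Sum ST4

theorem StC.M_le (h : StC x y) (k : Fin n) : ∀ g ∈ gM x y k, g.1 ∈ FixI (TM k) := by
  suffices gM x y k ≤ (FixI (TM k)).comap (MonoidHom.fst _ _) from fun g hg => this hg
  refine (closure_le _).2 ?_
  rintro _ ⟨l, hl, s, rfl | rfl | rfl⟩ i hi
  · have : inr k ≠ i := by rintro rfl; simp at hi
    simp [gY, mY_smul h.two, bv_apply, this]
  · have : inr l ≠ i := by rintro rfl; simp [hl] at hi
    simp [gY, mY_smul h.two, bv_apply, this]
  · have : inr k ≠ i := by rintro rfl; simp at hi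
    have : inr l ≠ i := by rintro rfl; simp [hl] at hi
    have : idx (inl k : Ix n) ≠ idx (inl l : Ix n) := by simp [hl]
    simp [gX, mX_smul this h.two, bv_apply, *]

theorem StC.M_ex (h : StC x y) (hk : (k : ℕ) + 1 < n) :
    ∀ A ∈ FixI (TM k), ∃ g ∈ gM x y k, g.1 = A := by
  intro A hA
  obtain ⟨l, hl⟩ : ∃ l : Fin n, (l : ℕ) = k + 1 := ⟨⟨_, hk⟩, rfl⟩
  have kl : k ≠ l := by rintro rfl; omega
  have id : idx (inl k : Ix n) ≠ idx (inl l : Ix n) := by simp [hl]
  have hg : gY y (inl k) ((A • (bv (inr k) : Ix n → K)) (inl k)) *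
      gY y (inl l) ((A • (bv (inr l) : Ix n → K)) (inl l)) *
      gX x (inl k) (inl l) ((A • (bv (inr k) : Ix n → K)) (inl l)) ∈ gM x y k :=
    mul_mem (mul_mem (subset_closure ⟨l, hl, _, .inl rfl⟩) (subset_closure ⟨l, hl, _, .inr (.inl rfl)⟩))
      (subset_closure ⟨l, hl, _, .inr (.inr rfl)⟩)
  have f : ∀ i j : Fin n, (A • (bv (inr i) : Ix n → K)) (inr j) = if j = i then 1 else 0 := fun i j => by
    rw [FixI.apply hA _ (by simp)]; simp [bv_apply]
  have two : ∀ s : K, s + s = 0 := fun s => by linear_combination s * h.two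
  refine ⟨_, inv_mem hg, inv_eq_of_mul_eq_one_right (uniq hl (mul_mem (h.M_le k _ hg) hA) ?_ ?_ ?_)⟩ <;>
    simp [gX, gY, mul_smul, mX_smul id h.two, mY_smul h.two, bv_apply, f, kl, kl.symm, two]

theorem StC.MM (h : StC x y) (k l : Fin n) : Fn (gM x y k ⊔ gM x y l) := by
  have g := h.gr
  let Z : {p : Fin n × Fin n // p.1 ≤ p.2} → K → Sp n K × G := fun p s =>
    if p.1.1 = p.1.2 then gY y (inl p.1.1) s else gX x (inl p.1.1) (inl p.1.2) s
  have id : ∀ {i j : Fin n}, i ≠ j → idx (inl i : Ix n) ≠ idx (inl j : Ix n) := fun e => by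
    simpa [Fin.ext_iff] using e
  have key := fn_of Z (fun p s r => by
      simp only [Z]
      split_ifs with c
      exacts [g.yadd _ _ _, g.xadd _ _ _ _ (id c)])
    (fun p q _ s r => by
      simp only [Z]
      split_ifs with c d d
      exacts [g.yy _ _ _ _ (by simp), g.yx _ _ _ _ _ (id d) (by simp) (by simp),
        (g.yx _ _ _ _ _ (id c) (by simp) (by simp)).symm,
        g.xx _ _ _ _ _ _ (id c) (id d) (by simp) (by simp) (by simp) (by simp)])
    (FixI {i | i.isLeft = true}) (fun A p => (A • (bv (inr p.1.2) : Ix n → K)) (inl p.1.1))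
    (fun A hA C hC => funext fun p => by
      have e := FixI.smul_eq hA (x := C • (bv (inr p.1.2) : Ix n → K) - bv (inr p.1.2)) (by
        rintro (i | i) hi
        · simp at hi
        · rw [Pi.sub_apply, FixI.apply hC _ (by simp), sub_self])
      rw [smul_sub, sub_eq_iff_eq_add] at e
      rw [mul_smul, e]
      simp [bv_apply, add_comm])
    (fun p s => by
      rintro (i | i) hi
      · simp only [Z]
        split_ifs with c
        · simp [gY, mY_smul h.two, bv_apply]
        · simp [gX, mX_smul (id c) h.two, bv_apply]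
      · simp at hi)
    (fun ⟨⟨i, j⟩, p⟩ s => funext fun ⟨⟨i', j'⟩, q⟩ => by
      simp only [Z, Pi.single_apply, Subtype.mk.injEq, Prod.mk.injEq]
      by_cases c : i = j
      · subst c
        by_cases c1 : i' = i <;> by_cases c2 : j' = i <;>
          simp_all [gY, mY_smul h.two, bv_apply, eq_comm]
      · have : ¬ (i = j' ∧ i' = j) := by
          rintro ⟨rfl, rfl⟩
          exact c (le_antisymm p q)
        simp only [if_neg c, gX, mX_smul (id c) h.two]
        by_cases c1 : i' = i <;> by_cases c2 : j' = j <;> by_cases c3 : i = j' <;> by_cases c4 : i' = j <;>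
          simp_all [bv_apply, eq_comm])
  have le : ∀ k, gM x y k ≤ closure {g | ∃ p s, g = Z p s} := fun k => closure_mono (by
    rintro _ ⟨l, hl, s, rfl | rfl | rfl⟩
    · exact ⟨⟨(k, k), le_rfl⟩, s, by simp [Z]⟩
    · exact ⟨⟨(l, l), le_rfl⟩, s, by simp [Z]⟩
    · have : k ≠ l := by rintro rfl; omega
      exact ⟨⟨(k, l), by simp [Fin.le_def, hl]⟩, s, by simp [Z, this]⟩)
  exact key.mono (sup_le (le k) (le l))

end Cfsg.Lib.SPW6
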