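import Cfsg.Agent.SPW6.Api
import Cfsg.Agent.SPW6.ST1
import Cfsg.Agent.SPW6.ST2
import Cfsg.Agent.SPW6.ST3
import Cfsg.Agent.SPW6.ST4
import Cfsg.Agent.SPW6.ST5

/-!
# Steinberg's presentation of the symplectic group in characteristic two
-/

set_option autoImplicit false
set_option linter.unusedSectionVars false

namespace Cfsg.Lib.SPW6

open Subgroup Module Cfsg.Lib.Trans Cfsg.Lib.Gold Cfsg.Lib.Class.Form Cfsg.Lib.Class.FAut
open Cfsg.Lib.UM6 (tT tE VW RR Fx St QW Cf mp Semi fa Mp cx re Ot kk Mx)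
open Cfsg.Lib.SP7
open Cfsg.Lib.SG2 (Uq Top)
open Cfsg.Lib.Comp (Tw)
open Cfsg.Lib.Chev.SpAm (Ix Sp bv idx Fn FixI pl TM)
open scoped commutatorElement

variable {G K : Type*} [Group G] [Field K] [Finite K] {n : ℕ} {x : Ix n → Ix n → K → G}
  {y : Ix n → K → G} {a c : Ix n} {k l : Fin n}

namespace ST6

open Chev.SpAm (idx_inl idx_inr idx_swap)

variable (h : StC x y) {E : Subgroup G} (hy : ∀ a s, y a s ∈ E)
include h hy

theorem flip (e : idx a ≠ idx c) (k : ∀ s, x a c s ∈ E) (s : K) : x a.swap c s ∈ E := by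
  have hw : wY y a 1 ∈ E := mul_mem (mul_mem (hy _ _) (hy _ _)) (hy _ _)
  have := mul_mem (mul_mem hw (k s)) (inv_mem hw)
  rwa [h.wx e one_ne_zero, inv_one, one_mul] at this

theorem far (hx : ∀ k l : Fin n, (l : ℕ) = k + 1 → ∀ s, x (.inl k) (.inl l) s ∈ E) (d : ℕ) :
    ∀ k l : Fin n, (l : ℕ) = k + d + 1 → ∀ s, x (.inl k) (.inl l) s ∈ E := by
  induction d with
  | zero => exact hx
  | succ d ih =>
    intro k l e s
    let m : Fin n := ⟨k + d + 1, by have := l.2; omega⟩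
    have h1 := ih k m rfl s
    have h2 := flip h hy (a := .inl m) (c := .inl l) (by simp only [idx_inl, m]; omega)
      (hx m l (by simp only [m]; omega)) 1
    have h3 := h.a2 (.inl k) (.inl m) (.inl l) s 1 (by simp only [idx_inl, m]; omega)
      (by simp only [idx_inl]; omega) (by simp only [idx_inl, m]; omega)
    rw [mul_one] at h3
    exact (mul_mem_cancel_right (mul_mem h2 h1)).1 (h3 ▸ mul_mem h1 h2)

theorem all (hx : ∀ k l : Fin n, (l : ℕ) = k + 1 → ∀ s, x (.inl k) (.inl l) s ∈ E)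
    (e : idx a ≠ idx c) (s : K) : x a c s ∈ E := by
  have k1 : ∀ k l : Fin n, (k : ℕ) ≠ l → ∀ s, x (.inl k) (.inl l) s ∈ E := fun k l e s => by
    rcases Nat.lt_or_gt_of_ne e with e' | e'
    · exact far h hy hx (l - k - 1) k l (by omega) s
    · rw [h.sym (.inl k) (.inl l) s e]
      exact far h hy hx (k - l - 1) l k (by omega) s
  have k2 : ∀ (a : Ix n) (l : Fin n), idx a ≠ l → ∀ s, x a (.inl l) s ∈ E := by
    rintro (k | k) l e s
    · exact k1 k l e s
    · exact flip h hy (a := .inl k) (c := .inl l) e (k1 k l e) s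
  rcases c with l | l
  · exact k2 a l e s
  · rw [h.sym _ _ s e]
    exact flip h hy (a := .inl l) (c := a) e.symm
      (fun s => h.sym a (.inl l) s e ▸ k2 a l e s) s

end ST6

theorem StC.hom (h : StC x y) (hn : 2 ≤ n) (hK : ∃ a : K, a ≠ 0 ∧ a ≠ 1) : ∃ ψ : Sp n K →* G,
    (∀ a c s, idx a ≠ idx c → ψ (mX a c s) = x a c s) ∧ ∀ a s, ψ (mY a s) = y a s := by
  have am : Chev.SpAm.Amal (gS y) (gM x y) := ⟨h.S_le, h.S_ex, fun k _ => h.M_le k,
    fun k hk => h.M_ex hk, fun k l e => h.SS hn e, fun k l _ _ _ => h.MM k l, fun k l hk => h.MS hk l⟩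
  have hg := am.good hK hn ⟨0, by omega⟩
  obtain ⟨Φ, hΦ⟩ := hg.fn.exists_hom fun A => hg.ex A fun i hi => absurd (Nat.zero_le _) hi
  have hy : ∀ a s, gY y a s ∈ Chev.SpAm.EE (gS y) (gM x y) 0 := by
    rintro (k | k) s
    · exact Chev.SpAm.S_le_EE (Nat.zero_le k) (mem_sup_left (subset_closure ⟨s, rfl⟩))
    · exact Chev.SpAm.S_le_EE (Nat.zero_le k) (mem_sup_right (subset_closure ⟨s, rfl⟩))
  exact ⟨Φ, fun a c s e => hΦ _ (ST6.all h.gr hy (fun k l e s => Chev.SpAm.M_le_EE (Nat.zero_le k)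
    (e ▸ l.2) (subset_closure ⟨l, e, s, .inr (.inr rfl)⟩)) e s), fun a s => hΦ _ (hy a s)⟩

end Cfsg.Lib.SPW6
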