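import Cfsg.Agent.SPW6.Api
import Cfsg.Agent.SPW6.T0
import Cfsg.Agent.SPW6.QK
import Cfsg.Agent.SPW6.XB

/-!
# Type IV: the root elements with parameters in the quadratic extension
-/

set_option autoImplicit false
set_option linter.unusedSectionVars false

namespace Cfsg.Lib.SPW6

open Subgroup Module Cfsg.Lib.Trans Cfsg.Lib.Gold Cfsg.Lib.Class.Form Cfsg.Lib.Class.FAut
open Cfsg.Lib.UM6 (tT tE VW RR Fx St QW Cf mp Semi fa Mp cx re Ot kk Mx)
open Cfsg.Lib.SP7
open Cfsg.Lib.SG2 (Uq Top)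
open Cfsg.Lib.Comp (Tw)
open Cfsg.Lib.Chev.SpAm (Ix Sp bv idx Fn FixI pl TM)
open scoped commutatorElement

variable {G F M K : Type*} [Group G] [Finite G] [Field F] [Finite F] [AddCommGroup M] [Module F M]
  [FiniteDimensional F M] [Field K] [Finite K] {B : M →ₗ[F] M →ₗ[F] F} {φ : sIsom B →* G} {t : G}
  {H : M → M → G} {D : M → G} {ι : F →+* K} {γ : K} {β : F} {p₀ p₁ : K → F} {τ : K ≃+* K}
  {X : Subgroup G}

namespace XA

theorem cT (m : Mo B) {g : sIsom B} {u : M} (e : lin g u = u) (c : F) : Commute g (tT B u c) :=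
  mul_inv_eq_iff_eq_mul.1 (by rw [m.tT_conj, e])

theorem cE (m : Mo B) {g : sIsom B} {u w : M} (k : B u w = 0) (e : lin g u = u) (e' : lin g w = w) :
    Commute g (tE B u w) := mul_inv_eq_iff_eq_mul.1 (by rw [m.tE_conj _ k, e, e'])

theorem fT (m : Mo B) {u x : M} (k : B u x = 0) (c : F) : lin (tT B u c) x = x := by
  simp [m.lin_tT, k]

theorem fE (m : Mo B) {u w x : M} (k : B u w = 0) (e : B u x = 0) (e' : B w x = 0) :
    lin (tE B u w) x = x := by
  simp [m.lin_tE k, e, e']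

theorem four {a b c d : G} (h1 : Commute a c) (h2 : Commute a d) (h3 : Commute b c)
    (h4 : Commute b d) : Commute (a * b) (c * d) := (h1.mul_right h2).mul_left (h3.mul_right h4)

end XA

open XA

theorem t4_vx (h : T4 φ t H D β) (k : QE ι γ β p₀ p₁ τ) :
    VX B ι (XK φ H p₀ p₁) (YK φ D p₀ p₁) := by
  have m : Mo B := h.toMo
  refine ⟨fun u w s e => ?_, fun u w s r e => ?_, fun u s r => ?_, fun u w s r e => ?_,
    fun u w x s r ⟨e1, e2, e3⟩ => ?_, fun u w x y s r ⟨e1, e2, e3⟩ ⟨_, e4, e5⟩ e6 => ?_,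
    fun u x y s r e e' => ?_, fun u x w y s r o e e' => t4_a2 h k s r o e e',
    fun w y y' s e e' => ?_⟩ <;> simp only [XK, YK]
  · rw [← m.tE_smul e, m.tE_comm (by simp [e]), ← h.smul, t4_swap h]
  · rw [k.p0_add, k.p1_add, add_smul, add_smul, m.tE_add ⟨by simp [e], by simp [e], by simp [m.alt]⟩,
      h.add2 _ _ _ ⟨by simp [e], by simp [e], by simp [m.alt]⟩, map_mul]
    exact ((t4_HE h (by simp [e]) (by simp [e])).mul_mul_mul_comm _ _).symm
  · rw [k.p0_add, k.p1_add, sr_add m.two, t4_Dadd h, m.tT_add, map_mul]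
    exact (t4_Dfix h (fT m (by simp [m.alt]) _)).mul_mul_mul_comm _ _
  · exact four ((m.comm_TT e _ _).map φ) (t4_Dfix h (fT m (by simp [e]) _))
      (t4_Dfix h (fT m (by simp [m.swap e]) _)).symm (t4_DD h (by simp [e]))
  · exact four ((cT m (fE m (by simp [e3]) (m.swap e1) (by simp [m.swap e2])) _).symm.map φ)
      (t4_Hfix h (fT m e1 _) (fT m (by simp [e2]) _))
      (t4_Dfix h (fE m (by simp [e3]) (by simp [m.swap e1]) (by simp [m.swap e2]))).symm
      (h.dH _ _ _ ⟨by simp [e1], by simp [e2], by simp [e3]⟩)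
  · exact four ((cE m (by simp [e6]) (fE m (by simp [e1]) e2 (by simp [e3]))
        (fE m (by simp [e1]) (by simp [e4]) (by simp [e5]))).map φ)
      (t4_Hfix h (fE m (by simp [e1]) e2 (by simp [e3]))
        (fE m (by simp [e1]) (by simp [e4]) (by simp [e5])))
      (t4_Hfix h (fE m (by simp [e6]) (m.swap e2) (by simp [m.swap e4]))
        (fE m (by simp [e6]) (by simp [m.swap e3]) (by simp [m.swap e5]))).symm
      (h.com _ _ _ _ ⟨by simp [e1], e2, by simp [e3]⟩ ⟨by simp [e1], by simp [e4], by simp [e5]⟩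
        (by simp [e6]))
  · refine four (Commute.map ?_ φ) (t4_HE h (by simp [e']) (by simp [e])).symm
      (t4_HE h (by simp [e]) (by simp [e'])) (h.comw _ _ _)
    change _ * _ = _ * _
    rw [m.tE_mul (by simp [e]) (by simp [e']), m.tE_mul (by simp [e']) (by simp [e]), add_comm, m.symm]
  · have e0 : p₀ (ι (B y y') * s * s) = B (p₀ s • y) (p₀ s • y') + β * B (p₁ s • y) (p₁ s • y') := by
      simp only [k.p0_mul, k.p1_mul, k.p0_ι, k.p1_ι, map_smul, LinearMap.smul_apply, smul_eq_mul]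
      ring
    have e1 : p₁ (ι (B y y') * s * s) = (1 + 0) * B (p₁ s • y) (p₁ s • y') := by
      simp only [k.p0_mul, k.p1_mul, k.p0_ι, k.p1_ι, map_smul, LinearMap.smul_apply, smul_eq_mul]
      linear_combination B y y' * p₀ s * p₁ s * m.two
    rw [(t4_HE h (by simp [e]) (by simp [e'])).mul_mul_mul_comm, ← map_mul,
      m.tE_mul (by simp [e]) (by simp [e']), h.mul _ _ _ _ (by simp [e]) (by simp [e'])
        ((sr_sq m.two _).trans e1), e0, m.tT_add, ee, map_mul, map_mul, smul_add, smul_add,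
      mul_assoc (H _ _), (t4_Hfix h (fT m (m.alt w) _) (fT m (by simp [e, e']) _)).mul_mul_mul_comm,
      ← (t4_Dfix h (fT m (by simp [m.alt]) _)).eq, mul_assoc (φ (tT B w _))]

theorem t4_tX (h : T4 φ t H D β) (k : QE ι γ β p₀ p₁ τ) {u w : M} (e : B u w = 0) (s : K) :
    t * XK φ H p₀ p₁ u w s * t⁻¹ = XK φ H p₀ p₁ u w (τ s) := by
  have m : Mo B := h.toMo
  rw [XK, XK, ← conj_mul, t4_tH h (by simp [e]), (h.tc _).eq, mul_inv_cancel_right, k.p0_τ, k.p1_τ,
    add_smul, m.tE_add ⟨by simp [e], by simp [e], by simp [m.alt]⟩, map_mul,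
    (t4_HE h (by simp [e]) (by simp [e])).eq, mul_assoc]

theorem t4_tY (h : T4 φ t H D β) (k : QE ι γ β p₀ p₁ τ) (u : M) (s : K) :
    t * YK φ D p₀ p₁ u s * t⁻¹ = YK φ D p₀ p₁ u (τ s) := by
  have m : Mo B := h.toMo
  rw [YK, YK, ← conj_mul, t4_tD h, (h.tc _).eq, mul_inv_cancel_right, k.p0_τ, k.p1_τ, m.tT_add,
    map_mul, m.tT_smul, sr_sq m.two, mul_one, ← (t4_Dfix h (fT m (by simp [m.alt]) _)).eq, mul_assoc]

theorem t4_val (h : T4 φ t H D β) (k : QE ι γ β p₀ p₁ τ) (u w : M) (a : F) :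
    XK φ H p₀ p₁ u w (ι a) = φ (tE B u (a • w)) ∧ YK φ D p₀ p₁ u (ι a) = φ (tT B u a) ∧
      XK φ H p₀ p₁ u w γ = H u w ∧ YK φ D p₀ p₁ u γ = D u := by
  have m : Mo B := h.toMo
  simp only [XK, YK, k.p0_ι, k.p1_ι, k.p0_γ, k.p1_γ, sr_zero m.two, sr_one m.two, zero_smul, one_smul,
    t4_zero h, h.d0, m.tE_zero, m.tT_zero, map_one, mul_one, one_mul, and_self]

end Cfsg.Lib.SPW6
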