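import Cfsg.Agent.SPW6.Api
import Cfsg.Agent.SPW6.T0
import Cfsg.Agent.SPW6.QK
import Cfsg.Agent.SPW6.C0
import Cfsg.Agent.SPW6.C7
import Cfsg.Agent.SPW6.GEN
import Cfsg.Agent.SPW6.ST6
import Cfsg.Agent.SPW6.XA
import Cfsg.Agent.SPW6.XD

/-!
# Standard subgroups of type `Sp_{2k}(2ⁿ)`, type IV: the field case
-/

set_option autoImplicit false
set_option linter.unusedSectionVars false

namespace Cfsg.Lib.SPW6

open Subgroup Module Cfsg.Lib.Trans Cfsg.Lib.Gold Cfsg.Lib.Class.Form Cfsg.Lib.Class.FAut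
open Cfsg.Lib.UM6 (tT tE VW RR Fx St QW Cf mp Semi fa Mp cx re Ot kk Mx)
open Cfsg.Lib.SP7
open Cfsg.Lib.SG2 (Uq Top)
open Cfsg.Lib.Comp (Tw)
open Cfsg.Lib.Chev.SpAm (Ix Sp bv idx Fn FixI pl TM)
open scoped commutatorElement

namespace EFc

theorem orth {F M : Type*} [Field F] [AddCommGroup M] [Module F M] {B : M →ₗ[F] M →ₗ[F] F} {n : ℕ}
    {b : Ix n → M} (k : Sb B b) {a d : Ix n} (e : idx a ≠ idx d) : B (b a) (b d) = 0 := by
  rw [k.form, if_neg]
  rintro rfl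
  exact e (by cases a <;> rfl)

theorem ne {F M : Type*} [Field F] [AddCommGroup M] [Module F M] {B : M →ₗ[F] M →ₗ[F] F} {n : ℕ}
    {b : Ix n → M} (k : Sb B b) (a : Ix n) : b a ≠ 0 := fun e => by
  have := k.form a a.swap
  rw [e, if_pos rfl, map_zero, LinearMap.zero_apply] at this
  exact zero_ne_one this

end EFc

section Ident
variable {G F M K : Type*} [Group G] [Finite G] [Field F] [Finite F] [AddCommGroup M] [Module F M]
  [FiniteDimensional F M] [Field K] [Finite K] {B : M →ₗ[F] M →ₗ[F] F} {φ : sIsom B →* G} {t : G}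
  {H : M → M → G} {D : M → G} {ι : F →+* K} {γ : K} {β : F} {p₀ p₁ : K → F} {τ : K ≃+* K}
  {X : Subgroup G}

theorem t4_ef (h : T4 φ t H D β) (k : QE ι γ β p₀ p₁ τ) (hc : Nat.card K = Nat.card F ^ 2) :
    ∃ (ψ : sIsom (Class.sympBilin (kk F M) K) →* G) (α : MulAut _), EF φ t ψ α := by
  have h1 : H1 φ t := h.toH1
  have m : Mo B := h1.toMo
  have h3 := m.three_le
  obtain ⟨c, ch⟩ := exists_ch m
  obtain ⟨b, sb, p2⟩ : ∃ b : Ix (kk F M) → M, Sb B b ∧
      P2 B (b (.inl ⟨0, by omega⟩)) (b (.inl ⟨1, by omega⟩)) :=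
    ⟨_, ch.sb, ch.p2 (i := 0) (j := 1) (by omega) (by omega) (by omega) (by omega)⟩
  have K2 := k.twoK
  obtain ⟨τ1, γ0, γ1⟩ := k.ne
  have mK : Mo (Class.sympBilin (kk F M) K) := mo_std K2 h3
  have sK : Sb (Class.sympBilin (kk F M) K) bv := sb_std K2
  obtain ⟨ψ, eT, eE⟩ : ∃ ψ : sIsom (Class.sympBilin (kk F M) K) →* G,
      (∀ a s, ψ (tT _ (bv a) s) = YK φ D p₀ p₁ (b a) s) ∧
      ∀ a d s, idx a ≠ idx d → ψ (tE _ (bv a) (s • bv d)) = XK φ H p₀ p₁ (b a) (b d) s := by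
    obtain ⟨ψ₀, hX, hY⟩ := ((t4_vx h k).stc m K2 sb).hom (by omega) ⟨γ, γ0, γ1⟩
    refine ⟨ψ₀.comp (Known.spEquivSIsom (kk F M) K).symm.toMonoidHom, fun a s => ?_,
      fun a d s e => ?_⟩
    · rw [← sp_mY mK, ← hY]
      exact congrArg ψ₀ (MulEquiv.symm_apply_apply _ _)
    · rw [← sp_mX mK e, ← hX a d s e]
      exact congrArg ψ₀ (MulEquiv.symm_apply_apply _ _)
  have le : φ.range ≤ ψ.range := by
    have := sb.gen m (S := ψ.range.comap φ)
      (fun a s => ⟨_, (eT a (ι s)).trans (t4_val h k (b a) (b a) s).2.1⟩)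
      fun a d s e => ⟨_, (eE a d (ι s) e).trans (t4_val h k (b a) (b d) s).1⟩
    rintro _ ⟨g, rfl⟩
    exact (this.ge (mem_top g) : g ∈ ψ.range.comap φ)
  have rg : ψ.range = G2 φ H D := by
    refine le_antisymm ?_ (t4_G2 h le p2 ⟨_, (eE _ _ γ (by simp [idx])).trans
      (t4_val h k _ _ 0).2.2.1⟩ (EFc.ne sb (.inl ⟨0, by omega⟩))
      ⟨_, (eT _ γ).trans (t4_val h k _ 0 0).2.2.2⟩)
    have l1 : ∀ g, φ g ∈ G2 φ H D := fun g => mem_sup_left (mem_sup_left ⟨g, rfl⟩)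
    have := sK.gen mK (S := (G2 φ H D).comap ψ)
      (fun a s => by
        rw [mem_comap, eT]
        exact mul_mem (l1 _) (mem_sup_right (subset_closure ⟨_, rfl⟩)))
      fun a d s e => by
        rw [mem_comap, eE a d s e]
        exact mul_mem (l1 _) (mem_sup_left (mem_sup_right (subset_closure ⟨_, _, rfl⟩)))
    rintro _ ⟨g, rfl⟩
    exact (this.ge (mem_top g) : g ∈ (G2 φ H D).comap ψ)
  have inj : Function.Injective ψ := by
    have := mK.simple
    rw [← MonoidHom.ker_eq_bot_iff]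
    refine (Subgroup.Normal.eq_bot_or_eq_top inferInstance).resolve_right fun e => ?_
    have e1 : ψ (tT _ (bv (.inl ⟨0, by omega⟩)) (ι 1)) = 1 := e.ge (mem_top _)
    rw [eT, (t4_val h k _ 0 1).2.1, ← map_one φ] at e1
    exact m.tT_ne (EFc.ne sb _) one_ne_zero (h1.inj e1)
  obtain ⟨α, sm⟩ := mK.of_semi (AddEquiv.piCongrRight fun _ => τ.toAddEquiv) τ
    (fun a x => funext fun i => map_mul τ a (x i)) (Known.sympBilin_map τ)
  have Γb : ∀ a : Ix (kk F M),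
      (AddEquiv.piCongrRight fun _ => τ.toAddEquiv) (bv a : Ix (kk F M) → K) = bv a :=
    fun a => funext fun i => by
      change τ (bv a i) = bv a i
      rw [bv, Pi.single_apply]
      split_ifs
      · exact map_one τ
      · exact map_zero τ
  refine ⟨ψ, α, h1, ⟨mK, inj⟩, hc, kk_std _, le, ?_, by rwa [mK.fa_eq sm], rg ▸ t4_cO h,
    rg ▸ t4_nL h⟩
  have := sK.gen mK (S := (cx ψ t).eqLocus (re ψ α))
    (fun a s => by
      change t * ψ _ * t⁻¹ = ψ (α _)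
      rw [mK.semi_tT sm, Γb, eT, eT, t4_tY h k])
    fun a d s e => by
      change t * ψ _ * t⁻¹ = ψ (α _)
      rw [mK.semi_tE sm (by rw [map_smul, EFc.orth sK e, smul_zero]), sm.smul, Γb, Γb, eE a d _ e,
        eE a d _ e, t4_tX h k (EFc.orth sb e)]
  exact fun g => (this.ge (mem_top g) : g ∈ (cx ψ t).eqLocus (re ψ α))

end Ident

end Cfsg.Lib.SPW6
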