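import Cfsg.Agent.SPW6.Api
import Cfsg.Agent.SPW6.C0b

/-!
# Symplectic groups in characteristic two: automorphisms and root elements
-/

set_option autoImplicit false
set_option linter.unusedSectionVars false

namespace Cfsg.Lib.SPW6

open Subgroup Module Cfsg.Lib.Trans Cfsg.Lib.Gold Cfsg.Lib.Class.Form Cfsg.Lib.Class.FAut
open Cfsg.Lib.UM6 (tT tE VW RR Fx St QW Cf mp Semi fa Mp cx re Ot kk Mx)
open Cfsg.Lib.SP7
open scoped commutatorElement

variable {F M : Type*} [Field F] [Finite F] [AddCommGroup M] [Module F M] [FiniteDimensional F M]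
  {B : M →ₗ[F] M →ₗ[F] F} {c c' : ℕ → M} {α : MulAut (sIsom B)} {Γ : M ≃+ M} {τ : F ≃+* F}
  {g g' : sIsom B} {i j : ℕ}

theorem C11.im (s : Semi α Γ τ) (v : sIsom B) (z : M) : z ∈ Im v ↔ Γ z ∈ Im (α v) := by
  refine ⟨fun ⟨x, e⟩ => mem_Im.2 ⟨Γ x, by rw [s.conj, ← map_sub, ← e]; rfl⟩, fun e => ?_⟩
  obtain ⟨x, e⟩ := mem_Im.1 e
  obtain ⟨x, rfl⟩ := Γ.surjective x
  rw [s.conj, ← map_sub] at e
  exact mem_Im.2 ⟨x, Γ.injective e⟩

theorem aut_QW (h : Mo B) {x y : M} (k : P2 B x y) (e : α (tE B x y) = tE B x y) :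
    mp α (QW B (l2 F x y)) = QW B (l2 F x y) := by
  obtain ⟨Γ, s⟩ := h.semi α
  have := C11.im s (tE B x y)
  rw [e, ← h.ee_zero, h.Im_ee k] at this
  exact (s.sub this).2.2.2.1

theorem Ch.root (k : Ch B c) (h : Mo B) (s : F) : ∃ a ∈ QW B (l2 F (c 0) (c 1)), ∃ b ∈ UU B c,
    a * a = 1 ∧ ⁅a, b⁆ = tE B (c 0) (s • c 1) := by
  have h3 := h.three_le
  have z : ∀ i j, i + j + 1 ≠ 2 * kk F M → B (c i) (c j) = 0 := fun i j e => by
    rw [k i j, if_neg e]
  have e02 := z 0 2 (by omega)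
  have e := J2.comm h s (z 0 1 (by omega)) (z 0 (2 * kk F M - 3) (by omega))
    (z _ 1 (by omega)) e02 (z 1 2 (by omega)) (by rw [k, if_pos (by omega)])
  refine ⟨tE B (c 0) (c 2), ⟨h.tE_mem_Fx e02 (h.mem_orth2.2 ⟨h.alt _, z 1 0 (by omega)⟩)
    (h.mem_orth2.2 ⟨e02, z 1 2 (by omega)⟩), fun x hx => ?_⟩, tE B (c (2 * kk F M - 3)) (s • c 1),
    ?_, h.tE_sq e02, ?_⟩
  · rw [h.lin_tE e02, (h.mem_orth2.1 hx).1, zero_smul, add_zero, add_sub_cancel_left]
    exact Submodule.smul_mem _ _ (A2.ul _ _)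
  · rw [h.tE_comm (K3.sm (z _ 1 (by omega)) s), h.tE_smul (z 1 _ (by omega))]
    exact k.tE_mem h (by omega) (by omega) s
  · rw [← commutatorElement_inv, e,
      inv_eq_of_mul_eq_one_right (h.tE_sq (K3.sm (z 0 1 (by omega)) s))]

theorem aut_E (h : Mo B) (β : MulAut (sIsom B)) {u x y : M} (k : P2 B u x) (e : B u y = 0) {a : F}
    (e' : β (tE B u x) = ee B u y a) : a = 0 := by
  obtain ⟨Γ, s⟩ := h.semi β
  obtain ⟨z, hz⟩ := h.exists_eq k.ne 1
  have k' := ((semi_P2 s).2 k).uw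
  have := congrArg (fun g => B (lin g z) z) e'
  simp only [h.semi_tE s k.uw, h.lin_tE k', h.lin_ee e, map_add, map_smul, smul_eq_mul,
    LinearMap.add_apply, LinearMap.smul_apply, hz] at this
  linear_combination -this + (B (Γ u) z * B (Γ x) z - B y z) * h.two

theorem aut_T (h : Mo B) (β : MulAut (sIsom B)) (u : M) (a : F) :
    ∃ y, β (tT B u a) = tT B y 1 := by
  obtain ⟨Γ, s⟩ := h.semi β
  obtain ⟨b, -, e⟩ := h.tT_sqrt (Γ u) (fa β a)
  exact ⟨_, by rw [h.semi_tT s, e]⟩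

theorem T_mul (h : Mo B) {u y z : M} (u0 : u ≠ 0) (e : tT B y 1 * tT B u 1 = tT B z 1)
    (e' : B u y = 0) : y ∈ F ∙ u := by
  by_contra n
  have k := ((P2.iff.2 ⟨e', u0, n⟩).add h 1).symm h
  rw [one_smul] at k
  have k1 := k.rank
  rw [← h.Im_ee k 1, ← h.TT_ee (h.swap e'), e, h.Im_T one_ne_zero] at k1
  have := K4.rk1 (F := F) z
  omega

theorem E_mul (h : Mo B) {u x y : M} (u0 : u ≠ 0) (k : P2 B x y) (e : lin (tE B x y) u = u)
    (e' : finrank F (Im (tE B x y * tT B u 1)) ≤ 2) : tE B x y ∈ Qu B u := by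
  obtain ⟨yu, xu⟩ := LinearIndependent.pair_iff.1 k.li (B y u) (B x u) (by
    rw [h.lin_tE k.uw] at e
    linear_combination (norm := module) e)
  by_cases n : u ∈ l2 F x y
  · obtain ⟨a, b, rfl⟩ := Submodule.mem_span_pair.1 n
    refine A2.inQ h e fun z hz => Submodule.mem_span_singleton.2 ?_
    simp only [map_add, map_smul, LinearMap.add_apply, LinearMap.smul_apply, smul_eq_mul] at hz
    rw [h.lin_tE k.uw]
    by_cases a0 : a = 0
    · have b0 : b ≠ 0 := fun b0 => u0 (by simp [a0, b0])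
      rw [a0, zero_mul, zero_add, mul_eq_zero, or_iff_right b0] at hz
      refine ⟨B x z * b⁻¹, ?_⟩
      rw [a0, zero_smul, zero_add, smul_smul, inv_mul_cancel_right₀ b0, hz]
      linear_combination (norm := module) -h.vadd_self z
    · have hz' : B y z * a⁻¹ * b = B x z := by
        field_simp
        linear_combination hz - (a * B x z) * h.two
      refine ⟨B y z * a⁻¹, ?_⟩
      rw [smul_add, smul_smul, smul_smul, inv_mul_cancel_right₀ a0, hz']
      linear_combination (norm := module) -h.vadd_self z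
  have im : ∀ a b d : F, a • y + b • x + d • u ∈ Im (tE B x y * tT B u 1) := fun a b d => by
    obtain ⟨z, h1, h2, h3⟩ := h.dual3 k.ne k.not_mem n a b d
    refine mem_Im.2 ⟨z, ?_⟩
    rw [lin_mul, h.lin_tT, map_add, map_smul, e, h.lin_tE k.uw, h1, h2, h3, one_mul]
    abel
  have lt : l2 F x y < Im (tE B x y * tT B u 1) := SetLike.lt_iff_le_and_exists.2
    ⟨fun w hw => by
      obtain ⟨a, b, rfl⟩ := Submodule.mem_span_pair.1 hw
      simpa [add_comm] using im b a 0, u, by simpa using im 0 0 1, n⟩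
  have := Submodule.finrank_lt_finrank_of_lt lt
  rw [k.rank] at this
  omega

theorem aut_rank (h : Mo B) (β : MulAut (sIsom B)) (v : sIsom B) :
    finrank F (Im (β v)) = finrank F (Im v) := by
  obtain ⟨Γ, s⟩ := h.semi β
  exact (s.sub (C11.im s v)).1

end Cfsg.Lib.SPW6
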