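import Cfsg.Agent.SPW6.Api
import Cfsg.Agent.SPW6.C0

/-!
# Symplectic groups in characteristic two: the group `V_W`
-/

set_option autoImplicit false
set_option linter.unusedSectionVars false

namespace Cfsg.Lib.SPW6

open Subgroup Module Cfsg.Lib.Trans Cfsg.Lib.Gold Cfsg.Lib.Class.Form Cfsg.Lib.Class.FAut
open Cfsg.Lib.UM6 (tT tE VW RR Fx St QW Cf mp Semi fa Mp cx re Ot kk Mx)
open Cfsg.Lib.SP7
open scoped commutatorElement

variable {F M : Type*} [Field F] [Finite F] [AddCommGroup M] [Module F M] [FiniteDimensional F M]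
  {B : M →ₗ[F] M →ₗ[F] F} {c c' : ℕ → M} {α : MulAut (sIsom B)} {Γ : M ≃+ M} {τ : F ≃+* F}
  {g g' : sIsom B} {i j : ℕ}

namespace C9

theorem ex (h : Mo B) {W U : Submodule F M} (hW : Mx B W) (hU : finrank F U ≤ 2) :
    ∃ z ∈ W, z ∉ U := SetLike.not_le_iff_exists.1 fun e => by
  have := Submodule.finrank_mono e
  have := h.three_le
  have := hW.dim
  omega

theorem st (h : Mo B) {W : Submodule F M} (hW : TotIso B W) {z y : M} (hz : z ∈ W)
    (e : B z y = 0) : tE B z y ∈ St B W := UM6.mem_St_of fun x hx => by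
  rw [h.lin_tE e, hW z hz x hx, zero_smul, add_zero]
  exact add_mem hx (W.smul_mem _ hz)

end C9

open C9

theorem Ch.jb (k : Ch B c) (h : Mo B) {E : Subgroup (sIsom B)} (h1 : E ≤ UU B c)
    (h2 : ∀ a ∈ E, a * a = 1) : Nat.card E ≤ Nat.card (VW B (Lf F c (kk F M))) ∧
      (Nat.card (VW B (Lf F c (kk F M))) ≤ Nat.card E → E = VW B (Lf F c (kk F M))) := by
  have m := k.mx h
  rw [h.card_VW m.ti, m.dim]
  refine ⟨(h.j1 h2).1, fun e => ?_⟩
  obtain ⟨W, hW, rfl⟩ := (h.j1 h2).2 e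
  rw [Submodule.eq_of_le_of_finrank_eq (fun x hx => ?_) (hW.dim.trans m.dim.symm)]
  by_contra n
  refine n (h.mx_iff.1 m ▸ mem_orth.2 fun w hw => h.swap ?_)
  have := ((mem_UU.1 (h1 (h.tT_mem hx 1)) (kk F M)).1 w).1 hw
  rw [h.lin_tT, one_mul, Submodule.add_mem_iff_right _ hw] at this
  exact A2.zero_of n this

theorem St_le_NsV {W : Submodule F M} : St B W ≤ Ns (VW B W) := fun _ hg => (UM6.St_le_Ns hg).1.1

theorem mx_inv (h : Mo B) {W : Submodule F M} (hW : Mx B W) (e : g * g = 1) :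
    ∃ l, l * g * l⁻¹ ∈ VW B W := by
  obtain ⟨W', k1, k2⟩ := h.inv e
  obtain ⟨l, hl⟩ := h.trW k1 hW
  exact ⟨l, (UM6.cj_sub hl).1 ▸ conj_mem_cj.2 k2⟩

theorem mx_root (h : Mo B) {W : Submodule F M} (hW : Mx B W) (hg : g ∈ St B W)
    (h1 : g * g ∈ Cs (VW B W)) (h2 : g ∉ Cs (VW B W)) :
    ∃ v ∈ VW B W, ∃ x y, P2 B x y ∧ ⁅v, g⁆ = tE B x y := by
  rw [h.Cs_VW hW.ti, UM6.mem_Fx] at h1 h2
  push Not at h2
  obtain ⟨x, hx, n⟩ := h2
  have gx := (hg x).1 hx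
  have fx : ∀ y ∈ W, lin g (y + lin g y) = y + lin g y := fun y hy => by
    rw [map_add, ← lin_mul, h1 y hy, add_comm]
  obtain ⟨y, hy, e, n'⟩ : ∃ y ∈ W, lin g y = y ∧ y ∉ F ∙ (x + lin g x) := by
    by_contra! k
    obtain ⟨y, hy, n'⟩ := ex h hW (K4.rk2 x (x + lin g x))
    obtain ⟨a, ha⟩ := Submodule.mem_span_singleton.1
      (k _ (add_mem hy ((hg y).1 hy)) (fx y hy))
    obtain ⟨b, hb⟩ := Submodule.mem_span_singleton.1 (k (y + a • x)
      (add_mem hy (W.smul_mem _ hx)) (by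
        rw [map_add, map_smul]
        linear_combination (norm := module) ha + h.vadd_self (lin g y) - h.vadd_self (a • x)))
    refine n' (Submodule.mem_span_pair.2 ⟨a, b, ?_⟩)
    linear_combination (norm := module) hb + h.vadd_self (a • x)
  have xy := hW.ti x hx y hy
  refine ⟨tE B x y, h.tE_mem xy hx hy, x + lin g x, y,
    P2.iff.2 ⟨hW.ti _ (add_mem hx gx) y hy, fun e => n ?_, n'⟩, ?_⟩
  · rwa [add_comm, ← h.vsub, sub_eq_zero] at e
  · rw [h.tE_add' ⟨hW.ti x hx _ gx, xy, hW.ti _ gx y hy⟩, commutatorElement_def,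
      inv_eq_of_mul_eq_one_right (h.tE_sq xy), mul_assoc, mul_assoc, ← mul_assoc g,
      h.tE_conj g xy, e]

theorem mx_gen (h : Mo B) {W : Submodule F M} (hW : Mx B W) : VW B W ≤
    closure {x | ∃ v ∈ VW B W, ∃ a ∈ St B W, a * a = 1 ∧ x = ⁅v, a⁆} := by
  refine h.gen_VW hW.ti fun x hx => ?_
  by_cases x0 : x = 0
  · rw [x0, h.tT_zero']; exact one_mem _
  obtain ⟨y, hy, n1⟩ := ex h hW ((K4.rk1 x).trans one_le_two)
  obtain ⟨z, hz, n2⟩ := ex h hW (K4.rk2 x y)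
  obtain ⟨p, p1, p2⟩ := h.dual2 x0 n1 0 1
  obtain ⟨q, q1, q2, q3⟩ := h.dual3 x0 n1 n2 0 0 1
  have xy := hW.ti x hx y hy
  have e1 := h.comm_T p1 xy 0 1
  rw [p2, mul_one, mul_one, one_smul, h.ee_zero, ee] at e1
  have e2 := J2.comm h 1 xy (hW.ti x hx z hz) (hW.ti z hz y hy) q1 q2 q3
  rw [one_smul] at e2
  refine (Subgroup.mul_mem_cancel_left _ (x := tE B x y) (subset_closure ?_)).1 (subset_closure ?_)
  · exact ⟨_, h.tE_mem (hW.ti z hz y hy) hz hy, _, st h hW.ti hx q1, h.tE_sq q1, e2.symm⟩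
  · exact ⟨_, h.tT_mem hy 1, _, st h hW.ti hx p1, h.tE_sq p1, e1.symm⟩

theorem mx_cv (h : Mo B) {W : Submodule F M} (hW : Mx B W) (hg : g ∈ VW B W)
    (e : ∀ a ∈ St B W, a * a = 1 → Commute g a) : g = 1 := lin_ext fun y => by
  have a1 := Submodule.finrank_sup_add_finrank_inf_eq W (orth B (F ∙ y))
  have a2 := h.cls.finrank_orth (F ∙ y)
  have a3 := (W ⊔ orth B (F ∙ y)).finrank_le
  have a4 := K4.rk1 (F := F) y
  have a5 := h.three_le
  have a6 := hW.dim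
  have ex : ∀ z : M, ∃ z' ∈ W ⊓ orth B (F ∙ y), z' ∉ F ∙ z := fun z =>
    SetLike.not_le_iff_exists.1 fun e => by
      have := Submodule.finrank_mono e
      have := K4.rk1 (F := F) z
      omega
  obtain ⟨z, hz, z0⟩ := ex 0
  obtain ⟨z', hz', z1⟩ := ex z
  have b := h.swap (h.mem_orth1.1 hz.2)
  have b' := h.swap (h.mem_orth1.1 hz'.2)
  have f := (h.VW_le_QW hW.ti hg).1
  exact h.V_fix (P2.iff.2 ⟨hW.ti z hz.1 z' hz'.1, fun e => z0 (by simp [e]), z1⟩) (f z hz.1)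
    (f z' hz'.1) b b' (e _ (st h hW.ti hz.1 b) (h.tE_sq b)) (e _ (st h hW.ti hz'.1 b') (h.tE_sq b'))

theorem tE_tr (h : Mo B) {x y x' y' : M} (k : P2 B x y) (k' : P2 B x' y') :
    ∃ l, l * tE B x y * l⁻¹ = tE B x' y' := by
  obtain ⟨l, e, e'⟩ := h.tr2 k k'
  exact ⟨l, by rw [h.tE_conj l k.uw, e, e']⟩

end Cfsg.Lib.SPW6
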