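import Cfsg.Agent.SPW6.Api
import Cfsg.Agent.SPW6.C0
import Cfsg.Agent.SPW6.C0b
import Cfsg.Agent.SPW6.C8
import Cfsg.Agent.SPW6.C11
import Cfsg.Agent.SPW6.GEN
import Cfsg.Agent.SPW6.RAT

/-! Standard subgroups of type `Sp_{2k}(2ⁿ)`, type IV: fusion in the field case. -/

set_option autoImplicit false
set_option linter.unusedSectionVars false
set_option linter.unusedVariables false

namespace Cfsg.Lib.SPW6

open Subgroup Module Cfsg.Lib.Trans Cfsg.Lib.Gold Cfsg.Lib.Class.Form Cfsg.Lib.Class.FAut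
open Cfsg.Lib.UM6 (tT tE VW RR Fx St QW Cf mp Semi fa Mp cx re Ot kk Mx)
open Cfsg.Lib.SP7
open Cfsg.Lib.SG2 (Uq Top)
open Cfsg.Lib.Comp (Tw)
open Cfsg.Lib.Chev.SpAm (Ix Sp bv idx Fn FixI pl TM)
open scoped commutatorElement

variable {G F M : Type*} [Group G] [Finite G] [Field F] [Finite F] [AddCommGroup M] [Module F M]
  [FiniteDimensional F M] {B : M →ₗ[F] M →ₗ[F] F} {φ : sIsom B →* G} {t g : G} {X : Subgroup G}
  {c : ℕ → M} {α : MulAut (sIsom B)} {Γ : M ≃+ M} {τ : F ≃+* F}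

namespace FUS

theorem c0 (h : FF φ t X c α Γ τ) : c 0 ≠ 0 :=
  h.sc.ch.ne (by have := h.toMo.three_le; omega)

theorem aT (h : FF φ t X c α Γ τ) : α (tT B (c 0) 1) = tT B (c 0) 1 := by
  rw [h.sc.aT h.toMo, map_one]

theorem tc (h : FF φ t X c α Γ τ) {v : sIsom B} (e : v * v = 1) :
    φ v * t * (φ v)⁻¹ = t * φ (α v * v) := by
  rw [map_mul, ← h.act v, ← map_inv, inv_eq_of_mul_eq_one_right e, inv_eq_of_mul_eq_one_right h.t2,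
    ← mul_assoc, ← mul_assoc, ← mul_assoc, h.t2, one_mul]

end FUS

open FUS

theorem FF.tM (h : FF φ t X c α Γ τ) : t ∈ Ns φ.range := mem_Ns_iff.2 h.act.cj_range

theorem FF.nX (h : FF φ t X c α Γ τ) (g : G) : g ∈ Ns X := by
  haveI := h.top.normal
  rw [Ns, normalizer_eq_top]; trivial

theorem FF.tsq (h : FF φ t X c α Γ τ) : α * α = 1 ∧ τ * τ = 1 :=
  ⟨h.toMod.mp_sq h.act h.t2, (h.toMo.semi_sq h.sc.semi (h.toMod.mp_sq h.act h.t2)).2⟩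

theorem FF.tY (h : FF φ t X c α Γ τ) : t ∈ Ns (YY φ X (c 0)) :=
  mem_Ns_inf (h.nX t) (le_normalizer (mem_C1.2 ((h.toMod.mp_fix h.act).2 (aT h)).eq))

theorem FF.tQ (h : FF φ t X c α Γ τ) : t ∈ Ns ((Qu B (c 0)).map φ) :=
  mem_Ns_iff.2 (by rw [h.act.cj_map, (aut_Q h.toMo (c0 h) (aT h)).1])

theorem FF.PY (h : FF φ t X c α Γ τ) : (Pu B (c 0)).map φ ≤ YY φ X (c 0) := by
  rintro _ ⟨v, hv, rfl⟩
  exact ⟨h.le ⟨v, rfl⟩, mem_C1.2 (((h.toMo.comm_tT one_ne_zero).2 (UM6.mem_Fx1.1 hv)).map φ).eq⟩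

theorem FF.LY (h : FF φ t X c α Γ τ) {v : sIsom B} (e : φ v ∈ YY φ X (c 0)) : v ∈ Pu B (c 0) :=
  UM6.mem_Fx1.2 ((h.toMo.comm_tT one_ne_zero).1 (h.toMod.comm.1 (mem_C1.1 e.2)))

theorem FF.sylY (h : FF φ t X c α Γ τ) : IsSylowIn 2 ((UU B c).map φ) (YY φ X (c 0)) :=
  h.syl.mono ((map_mono (h.sc.ch.U_le h.toMo)).trans h.PY) inf_le_left

theorem FF.tcE (h : FF φ t X c α Γ τ) :
    ∃ m ∈ φ.range, m * t * m⁻¹ = t * φ (tE B (c 0) (c 1)) := by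
  have m := h.toMo
  have k3 := m.three_le
  obtain ⟨κ, hκ⟩ := exists_kap h.tsq.2 h.t1
  have e : B (c 0) (c 1) = 0 := by rw [h.sc.ch 0 1, if_neg (by omega)]
  refine ⟨φ (tE B (c 0) (κ • c 1)), ⟨_, rfl⟩, ?_⟩
  rw [tc h (m.tE_sq (by simp [e])), h.sc.aE m (by omega),
    ← m.tE_add ⟨by simp [e], by simp [e], by simp [m.alt (c 1)]⟩, ← add_smul, add_comm, hκ, one_smul]

theorem FF.tcT (h : FF φ t X c α Γ τ) : ∃ m ∈ φ.range, m * t * m⁻¹ = t * φ (tT B (c 1) 1) := by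
  have m := h.toMo
  obtain ⟨κ, hκ⟩ := exists_kap h.tsq.2 h.t1
  refine ⟨φ (tT B (c 1) κ), ⟨_, rfl⟩, ?_⟩
  rw [tc h (m.tT_sq _ _), h.sc.aT m, ← m.tT_add, add_comm, hκ]

theorem FF.fg (h : FF φ t X c α Γ τ) : FG φ t X c α Γ τ := by
  refine ⟨h, fun v w g v2 e => ?_⟩
  have w2 : w * w = 1 := h.inj (by
    rw [map_mul, ← e, conj_mul, ← map_mul, v2, map_one, mul_one, mul_inv_cancel])
  obtain ⟨l, hl⟩ := h.sc.rat h.toMo v2
  obtain ⟨l', hl'⟩ := h.sc.rat h.toMo w2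
  have e' : φ l' * g * (φ l)⁻¹ * φ (l * v * l⁻¹) * (φ l' * g * (φ l)⁻¹)⁻¹ = φ (l' * w * l'⁻¹) := by
    simp only [map_mul, map_inv, ← e]
    group
  obtain ⟨m, hm, k⟩ := h.uq.fus h.tM h.t2 (g := φ l' * g * (φ l)⁻¹)
    ((h.toMod.mp_fix h.act).2 hl) (by rw [e']; exact (h.toMod.mp_fix h.act).2 hl')
  obtain ⟨β, hβ⟩ := h.toMod.ind hm
  rw [e', hβ] at k
  refine ⟨MulAut.conj l'⁻¹ * β * MulAut.conj l, ?_⟩
  rw [MulAut.mul_apply, MulAut.mul_apply, MulAut.conj_apply l, h.inj k, MulAut.conj_apply]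
  group

theorem FG.fusT (h : FG φ t X c α Γ τ) {u : M} {a : F} {w : sIsom B}
    (e : g * φ (tT B u a) * g⁻¹ = φ w) : ∃ y, w = tT B y 1 := by
  obtain ⟨β, hβ⟩ := h.fus _ w g (h.toMo.tT_sq u a) e
  obtain ⟨y, hy⟩ := aut_T h.toMo β u a
  exact ⟨y, hβ ▸ hy⟩

end Cfsg.Lib.SPW6
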