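import Cfsg.Agent.SPW6.Api
import Cfsg.Agent.SPW6.C0
import Cfsg.Agent.SPW6.C0b
import Cfsg.Agent.SPW6.C4

/-!
# Standard subgroups of type `Sp_{2k}(2ⁿ)`, type IV: `U` is not a central product
-/

set_option autoImplicit false
set_option linter.unusedSectionVars false

namespace Cfsg.Lib.SPW6

open Subgroup Module Cfsg.Lib.Trans Cfsg.Lib.Gold Cfsg.Lib.Class.Form Cfsg.Lib.Class.FAut
open Cfsg.Lib.UM6 (tT tE VW RR Fx St QW Cf mp Semi fa Mp cx re Ot kk Mx)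
open Cfsg.Lib.SP7
open Cfsg.Lib.SG2 (Uq Top)
open Cfsg.Lib.Comp (Tw)
open Cfsg.Lib.Chev.SpAm (Ix Sp bv idx Fn FixI pl TM)
open scoped commutatorElement

section Model
variable {F M : Type*} [Field F] [Finite F] [AddCommGroup M] [Module F M] [FiniteDimensional F M]
  {B : M →ₗ[F] M →ₗ[F] F} {c c' : ℕ → M} {α : MulAut (sIsom B)} {Γ : M ≃+ M} {τ : F ≃+* F}
  {γ : (F ≃+* F) →* MulAut (sIsom B)} {g g' : sIsom B} {i j : ℕ}

namespace C5

local notation "𝐥[" i "]" => B (c (2 * kk F M - 1 - i))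
local notation "𝐱[" i "," g "]" => B (c (2 * kk F M - 1 - i)) (lin g (c (i + 1)))

theorem lc (k : Ch B c) (hi : i < 2 * kk F M) (j : ℕ) : 𝐥[i] (c j) = if j = i then 1 else 0 := by
  rw [k]
  exact if_congr (by omega) rfl rfl

theorem lz (k : Ch B c) (h : Mo B) (hi : i < 2 * kk F M) (e : j ≤ i) {x : M} (hx : x ∈ Lf F c j) :
    𝐥[i] x = 0 := (k.mem_Lf h).1 hx _ (by omega)

theorem step (k : Ch B c) (h : Mo B) (hi : i + 1 < 2 * kk F M) (hg : g ∈ UU B c) {x : M}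
    (hx : x ∈ Lf F c (i + 1 + 1)) : 𝐥[i] (lin g x) = 𝐥[i] x + 𝐥[i + 1] x * 𝐱[i, g] := by
  obtain ⟨a, ha⟩ := mem_Lf_succ.1 hx
  have e1 := lz k h hi le_rfl ha
  have e2 := lz k h (i := i) (by omega) le_rfl ((hg i).2 _ ha)
  have e3 := lc k hi (i + 1)
  have e4 := lc k (i := i) (by omega) (i + 1)
  rw [if_pos rfl] at e3
  rw [if_neg (by omega)] at e4
  simp only [map_sub, map_smul, smul_eq_mul, e3, e4] at e1 e2
  linear_combination e2 - 𝐱[i, g] * e1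

theorem add (k : Ch B c) (h : Mo B) (hi : i + 1 < 2 * kk F M) (hg : g ∈ UU B c)
    (hg' : g' ∈ UU B c) : 𝐱[i, g * g'] = 𝐱[i, g] + 𝐱[i, g'] := by
  have e1 := lz k h hi le_rfl ((k.mem_U h).1 hg' (i + 1))
  have e3 := lc k hi (i + 1)
  rw [if_pos rfl] at e3
  rw [map_sub, e3] at e1
  rw [lin_mul, step k h hi hg (((hg' _).1 _).1 (mem_Lf_of (Nat.lt_succ_self _)))]
  linear_combination 𝐱[i, g] * e1

theorem two (k : Ch B c) (h : Mo B) (hi : i + 1 + 1 < 2 * kk F M) (hg : g ∈ UU B c)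
    (hg' : g' ∈ UU B c) : 𝐥[i] (lin (g * g') (c (i + 1 + 1))) = 𝐥[i] (lin g (c (i + 1 + 1))) +
      𝐥[i] (lin g' (c (i + 1 + 1))) + 𝐱[i + 1, g'] * 𝐱[i, g] := by
  have e1 := step k h (i := i) (by omega) hg ((k.mem_U h).1 hg' (i + 1 + 1))
  have e3 := lc k (i := i) (by omega) (i + 1 + 1)
  have e4 := lc k (i := i + 1) (by omega) (i + 1 + 1)
  rw [if_neg (by omega)] at e3 e4
  simp only [map_sub, e3, e4] at e1
  rw [lin_mul]
  linear_combination e1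

theorem com (k : Ch B c) (h : Mo B) (hi : i + 1 + 1 < 2 * kk F M) (hg : g ∈ UU B c)
    (hg' : g' ∈ UU B c) (e : g * g' = g' * g) :
    𝐱[i, g] * 𝐱[i + 1, g'] = 𝐱[i, g'] * 𝐱[i + 1, g] := by
  have e1 := two k h hi hg hg'
  have e2 := two k h hi hg' hg
  rw [e] at e1
  linear_combination e2 - e1

theorem gen0 (k : Sc B c α Γ τ) (h : Mo B) (hi : i < kk F M) : ∃ s ∈ UU B c ⊓ Cf α,
    ∀ l, l + 1 < 2 * kk F M → 𝐱[l, s] = if l = i ∨ l + i + 2 = 2 * kk F M then 1 else 0 := by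
  rcases Nat.lt_or_ge (i + 1) (kk F M) with e | e
  · refine ⟨tE B (c i) ((1 : F) • c (2 * kk F M - 2 - i)), ⟨k.ch.tE_mem h (by omega) (by omega) 1,
      (k.aE h (by omega) 1).trans (by rw [map_one])⟩, fun l hl => ?_⟩
    have e0 : B (c i) (c (2 * kk F M - 2 - i)) = 0 := by rw [k.ch, if_neg (by omega)]
    rw [one_smul, h.lin_tE e0]
    simp only [map_add, map_smul, smul_eq_mul, lc k.ch (i := l) (by omega), k.ch i, k.ch (_ - 2 - i)]
    split_ifs <;> first | omega | simp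
  · refine ⟨tT B (c i) 1, ⟨k.ch.tT_mem h hi 1, (k.aT h i 1).trans (by rw [map_one])⟩,
      fun l hl => ?_⟩
    rw [h.lin_tT]
    simp only [map_add, map_smul, smul_eq_mul, lc k.ch (i := l) (by omega), k.ch i]
    split_ifs <;> first | omega | simp

theorem gen1 (k : Sc B c α Γ τ) (h : Mo B) (hi : i + 1 < 2 * kk F M) : ∃ s ∈ UU B c ⊓ Cf α,
    ∀ l, l + 1 < 2 * kk F M → 𝐱[l, s] = if l = i ∨ l + i + 2 = 2 * kk F M then 1 else 0 := by
  rcases Nat.lt_or_ge i (kk F M) with e | e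
  · exact gen0 k h e
  · obtain ⟨s, hs, e1⟩ := gen0 k h (i := 2 * kk F M - 2 - i) (by omega)
    exact ⟨s, hs, fun l hl => (e1 l hl).trans (if_congr (by omega) rfl rfl)⟩

theorem all (k : Sc B c α Γ τ) (h : Mo B) (hj : j ≤ kk F M) : ∃ s ∈ UU B c ⊓ Cf α,
    ∀ l, l + 1 < 2 * kk F M → 𝐱[l, s] = if l < j ∨ 2 * kk F M ≤ l + j + 1 then 1 else 0 := by
  induction j with
  | zero =>
    refine ⟨1, one_mem _, fun l hl => ?_⟩
    rw [lin_one, lc k.ch (i := l) (by omega), if_neg (by omega), if_neg (by omega)]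
  | succ j ih =>
    obtain ⟨s, hs, e⟩ := ih (by omega)
    obtain ⟨s', hs', e'⟩ := gen0 k h (i := j) (by omega)
    refine ⟨s * s', mul_mem hs hs', fun l hl => ?_⟩
    rw [add k.ch h hl hs.1 hs'.1, e l hl, e' l hl]
    split_ifs <;> first | omega | simp

theorem alg {p1 p2 r1 r2 a1 a2 : F} (e1 : p1 * r2 = r1 * p2) (e2 : a1 * r2 = r1 * a2)
    (e : ¬ (r1 = 0 ∧ r2 = 0)) : p1 * a2 = a1 * p2 := by
  by_cases h1 : r1 = 0
  · refine mul_left_cancel₀ (fun h2 : r2 = 0 => e ⟨h1, h2⟩) ?_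
    linear_combination a2 * e1 - p2 * e2
  · refine mul_left_cancel₀ h1 ?_
    linear_combination a1 * e1 - p1 * e2

variable {A D : Subgroup (sIsom B)}

theorem pair (k : Sc B c α Γ τ) (h : Mo B) (h1 : A ≤ Cs D) (h2 : A ⊔ D = UU B c ⊓ Cf α)
    (hi : i + 1 + 1 < 2 * kk F M) : (∀ a ∈ A, 𝐱[i, a] = 0 ∧ 𝐱[i + 1, a] = 0) ∨
      ∀ d ∈ D, 𝐱[i, d] = 0 ∧ 𝐱[i + 1, d] = 0 := by
  by_contra! e
  obtain ⟨⟨p, hp, e1⟩, r, hr, e2⟩ := e
  have hA : A ≤ UU B c := le_sup_left.trans (h2.le.trans inf_le_left)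
  have hD : D ≤ UU B c := le_sup_right.trans (h2.le.trans inf_le_left)
  have cm : ∀ a ∈ A, ∀ d ∈ D, 𝐱[i, a] * 𝐱[i + 1, d] = 𝐱[i, d] * 𝐱[i + 1, a] :=
    fun a ha d hd => com k.ch h hi (hA ha) (hD hd) (mem_Cs.1 (h1 ha) d hd).symm
  have key : ∀ w ∈ UU B c ⊓ Cf α, 𝐱[i, p] * 𝐱[i + 1, w] = 𝐱[i, w] * 𝐱[i + 1, p] := fun w hw => by
    obtain ⟨a, ha, d, hd, rfl⟩ := (SG2.mem_sup_Cs h1).1 (h2.ge hw)
    rw [add k.ch h hi (hA ha) (hD hd), add k.ch h (i := i) (by omega) (hA ha) (hD hd)]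
    linear_combination cm p hp d hd + alg (cm p hp r hr) (cm a ha r hr) fun e => e2 e.1 e.2
  obtain ⟨s, hs, e3⟩ := gen1 k h (i := i) (by omega)
  obtain ⟨s', hs', e4⟩ := gen1 k h hi
  have k1 := key s hs
  have k2 := key s' hs'
  rw [e3 i (by omega), e3 (i + 1) hi, if_neg (by omega), if_pos (by omega)] at k1
  rw [e4 i (by omega), e4 (i + 1) hi, if_pos (by omega), if_neg (by omega)] at k2
  exact e1 (by linear_combination k2) (by linear_combination -k1)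

theorem van (k : Sc B c α Γ τ) (h : Mo B) (h1 : A ≤ Cs D) (h2 : A ⊔ D = UU B c ⊓ Cf α)
    (h0 : ∀ a ∈ A, 𝐱[0, a] = 0 ∧ 𝐱[0 + 1, a] = 0) (i : ℕ) (hi : i + 1 + 1 < 2 * kk F M) :
    ∀ a ∈ A, 𝐱[i, a] = 0 ∧ 𝐱[i + 1, a] = 0 := by
  induction i with
  | zero => exact h0
  | succ i ih =>
    refine (pair k h h1 h2 hi).resolve_right fun e => ?_
    obtain ⟨s, hs, e3⟩ := gen1 k h (i := i + 1) (by omega)
    obtain ⟨a, ha, d, hd, rfl⟩ := (SG2.mem_sup_Cs h1).1 (h2.ge hs)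
    have := e3 (i + 1) (by omega)
    rw [add k.ch h (by omega) (h2.le (mem_sup_left ha)).1 (h2.le (mem_sup_right hd)).1,
      (ih (by omega) a ha).2, (e d hd).1, if_pos (by omega), add_zero] at this
    exact zero_ne_one this

theorem main (k : Sc B c α Γ τ) (h : Mo B) (h1 : A ≤ Cs D) (h2 : A ⊔ D = UU B c ⊓ Cf α)
    (h0 : ∀ a ∈ A, 𝐱[0, a] = 0 ∧ 𝐱[0 + 1, a] = 0) : A ≤ Cs (UU B c ⊓ Cf α) := by
  have h3 := h.three_le
  have v : ∀ l, l + 1 < 2 * kk F M → ∀ a ∈ A, 𝐱[l, a] = 0 := fun l hl a ha => by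
    rcases l with _ | l
    · exact (h0 a ha).1
    · exact (van k h h1 h2 h0 l hl a ha).2
  obtain ⟨s, hs, e⟩ := all k h le_rfl
  obtain ⟨a, ha, d, hd, rfl⟩ := (SG2.mem_sup_Cs h1).1 (h2.ge hs)
  have hd' := (h2.le (mem_sup_right hd)).1
  have r : ∀ l, l + 1 < 2 * kk F M → 𝐱[l, d] ≠ 0 := fun l hl => by
    have := e l hl
    rw [add k.ch h hl (h2.le (mem_sup_left ha)).1 hd', v l hl a ha, if_pos (by omega),
      zero_add] at this
    rw [this]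
    exact one_ne_zero
  rw [← h2]
  refine le_Cs_comm.1 (sup_le (fun x hx => mem_Cs.2 fun z hz => ?_) (le_Cs_comm.1 h1))
  exact k.ch.reg h hd' r (mem_Cs.1 (h1 hz) d hd) (mem_Cs.1 (h1 hx) d hd)

end C5

theorem Sc.nc (k : Sc B c α Γ τ) (h : Mo B) {A D : Subgroup (sIsom B)} (h1 : A ≤ Cs D)
    (h2 : A ⊔ D = UU B c ⊓ Cf α) : A ≤ Cs (UU B c ⊓ Cf α) ∨ D ≤ Cs (UU B c ⊓ Cf α) :=
  (C5.pair k h h1 h2 (i := 0) (by have := h.three_le; omega)).imp (C5.main k h h1 h2)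
    (C5.main k h (le_Cs_comm.1 h1) (sup_comm A D ▸ h2))

end Model

end Cfsg.Lib.SPW6
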