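import Cfsg.Agent.SPW6.Api
import Cfsg.Agent.SPW6.C0b
import Cfsg.Agent.SPW6.C3
import Cfsg.Agent.SPW6.C9
import Cfsg.Agent.SPW6.C11

/-!
# The wreathed configuration: the group `J` of a factor
-/

set_option autoImplicit false
set_option linter.unusedSectionVars false

namespace Cfsg.Lib.SPW6

open Subgroup Module Cfsg.Lib.Trans Cfsg.Lib.Gold Cfsg.Lib.Class.Form Cfsg.Lib.Class.FAut
open Cfsg.Lib.UM6 (tT tE VW RR Fx St QW Cf mp Semi fa Mp cx re Ot kk Mx)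
open Cfsg.Lib.SP7
open Cfsg.Lib.SG2 (Uq Top)
open Cfsg.Lib.Comp (Tw)
open Cfsg.Lib.Chev.SpAm (Ix Sp bv idx Fn FixI pl TM)
open scoped commutatorElement

theorem G2.itc_map {G H : Type*} [Group G] [Group H] (f : G →* H) (J U : Subgroup G) (m : ℕ) :
    itc (J.map f) (U.map f) m = (itc J U m).map f := by
  induction m with
  | zero => rfl
  | succ m ih => rw [itc_succ, itc_succ, ih, map_commutator]

section Wreath
variable {G F M : Type*} [Group G] [Finite G] [Field F] [Finite F] [AddCommGroup M] [Module F M]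
  [FiniteDimensional F M] {B : M →ₗ[F] M →ₗ[F] F} {φ y z : sIsom B →* G} {t : G} {X : Subgroup G}
  {c : ℕ → M} {γ : (F ≃+* F) →* MulAut (sIsom B)} {H : M → M → G} {D : M → G} {β s : F}

theorem G2.cs (h : Mod y) {A : Subgroup (sIsom B)} {a : sIsom B} : y a ∈ Cs (A.map y) ↔ a ∈ Cs A :=
  ⟨fun e => mem_Cs.2 fun b hb => h.comm.1 (mem_Cs.1 e _ (mem_map_of_mem y hb)),
    fun e => mem_Cs.2 (by rintro _ ⟨b, hb, rfl⟩; exact h.comm.2 (mem_Cs.1 e b hb))⟩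

theorem mod_fb (h : Mod y) (k : Ch B c) {m : ℕ} (s0 : s ≠ 0)
    (h1 : tE B (c 0) (s • c 1) ∈ itc (VW B (Lf F c (kk F M))) (UU B c) (m + 1))
    (h2 : ∀ g ∈ itc (VW B (Lf F c (kk F M))) (UU B c) (m + 1), ∃ a : F, g = tE B (c 0) (a • c 1)) :
    Fb y.range ((UU B c).map y) ((VW B (Lf F c (kk F M))).map y) (y (tE B (c 0) (s • c 1))) m := by
  have mo := h.toMo
  have k3 := mo.three_le
  have mx := k.mx mo
  have p : ∀ a : F, a ≠ 0 → P2 B (c 0) (a • c 1) := fun a ha => by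
    simpa using (k.p2 (i := 0) (j := 1) (by omega) (by omega) (by omega) (by omega)).smul
      one_ne_zero ha
  have hS : ∀ a ∈ UU B c, a ∈ St B (Lf F c (kk F M)) := fun a ha => (ha _).1
  have hN : ∀ a ∈ St B (Lf F c (kk F M)), y a ∈ Ns ((VW B (Lf F c (kk F M))).map y) :=
    fun a ha => le_normalizer_map y (mem_map_of_mem y (St_le_NsV ha))
  have sq : ∀ {a}, y a * y a = 1 ↔ a * a = 1 := by
    intro a
    rw [← map_mul, map_eq_one_iff y h.inj]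
  refine ⟨map_mono (k.V_le mo), ?_, ?_, fun E e1 e2 => ?_, fun e => ?_, ?_, ?_, ?_, ?_, ?_, ?_, ?_,
    (QW B (l2 F (c 0) (c 1))).map y, map_mono (Lf_two (F := F) (c := c) ▸ k.QW_le mo (by omega)),
    fun g hg => ?_, ?_⟩
  · rintro _ ⟨v, hv, rfl⟩
    exact sq.2 (mo.sq_VW mx.ti hv)
  · rintro _ ⟨v, hv, rfl⟩
    exact hN v (hS v hv)
  · obtain ⟨E, rfl⟩ : ∃ E' : Subgroup (sIsom B), E'.map y = E :=
      ⟨_, map_comap_eq_self (e1.trans (map_le_range _ _))⟩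
    have := k.jb mo ((map_le_map_iff_of_injective h.inj).1 e1) fun a ha =>
      sq.1 (e2 _ (mem_map_of_mem y ha))
    rw [h.card_map, h.card_map]
    exact ⟨this.1, fun e => by rw [this.2 e]⟩
  · rw [map_eq_one_iff y h.inj, ← mo.ee_zero, mo.ee_eq_one (p s s0).ne (p s s0).uw] at e
    exact (p s s0).not_mem e.1
  · rw [G2.itc_map]
    exact mem_map_of_mem y h1
  · rw [G2.itc_map]
    rintro _ ⟨g, hg, rfl⟩
    obtain ⟨a, rfl⟩ := h2 g hg
    exact (G2.cs h).2 (mo.ee_zero (c 0) (a • c 1) ▸ (k.Z_mem mo 0 a).2)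
  · rw [G2.itc_map]
    rintro _ ⟨g, hg, rfl⟩ e
    obtain ⟨a, rfl⟩ := h2 g hg
    obtain ⟨l, hl⟩ := tE_tr mo (p s s0) (p a fun a0 => e (by rw [a0, zero_smul, mo.tE_zero, map_one]))
    exact ⟨y l, ⟨l, rfl⟩, by rw [← hl, map_mul, map_mul, map_inv]⟩
  · rintro _ ⟨v, rfl⟩ e
    obtain ⟨l, hl⟩ := mx_inv mo mx (sq.1 e)
    exact ⟨y l, ⟨l, rfl⟩, _, hl, by rw [map_mul, map_mul, map_inv]⟩
  · rintro _ ⟨a, ha, rfl⟩ e e'
    rw [← map_mul, G2.cs h] at e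
    obtain ⟨v, hv, x, w, p', e⟩ := mx_root mo mx (hS a ha) e fun e => e' ((G2.cs h).2 e)
    obtain ⟨l, hl⟩ := tE_tr mo (p s s0) p'
    exact ⟨y v, mem_map_of_mem y hv, y l, ⟨l, rfl⟩, by
      rw [← map_commutatorElement, e, ← hl, map_mul, map_mul, map_inv]⟩
  · refine (map_mono (mx_gen mo mx)).trans ?_
    rw [MonoidHom.map_closure]
    refine closure_mono ?_
    rintro _ ⟨_, ⟨v, hv, a, ha, e, rfl⟩, rfl⟩
    exact ⟨y v, mem_map_of_mem y hv, y a, ⟨⟨a, rfl⟩, hN a ha⟩, sq.2 e, map_commutatorElement ..⟩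
  · rintro _ ⟨v, hv, rfl⟩ e
    rw [mx_cv mo mx hv fun a ha a2 => h.comm.1 (e _ ⟨⟨a, rfl⟩, hN a ha⟩ (sq.2 a2)), map_one]
  · obtain ⟨α, hα⟩ := h.ind hg.1
    have := aut_QW mo (p s s0) ((h.mp_fix hα).1 (mem_C1.1 hg.2))
    have e : l2 F (c 0) (s • c 1) = l2 F (c 0) (c 1) := by
      rw [l2, l2, Submodule.span_insert, Submodule.span_insert, span_smul1 _ s0]
    rw [e] at this
    exact mem_Ns_iff.2 (by rw [hα.cj_map, this])
  · obtain ⟨a, ha, b, hb, e, e'⟩ := k.root mo s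
    exact ⟨y a, mem_map_of_mem y ha, y b, mem_map_of_mem y hb, sq.2 e, by
      rw [← map_commutatorElement, e']⟩

end Wreath

end Cfsg.Lib.SPW6
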