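import Cfsg.Agent.SPW6.Api

/-!
# Standard subgroups of type `Sp_{2k}(2ⁿ)`, type IV: uniqueness of the split overgroup
-/

set_option autoImplicit false
set_option linter.unusedSectionVars false

namespace Cfsg.Lib.SPW6

open Subgroup Module Cfsg.Lib.Trans Cfsg.Lib.Gold Cfsg.Lib.Class.Form Cfsg.Lib.Class.FAut
open Cfsg.Lib.UM6 (tT tE VW RR Fx St QW Cf mp Semi fa Mp cx re Ot kk Mx)
open Cfsg.Lib.SP7
open Cfsg.Lib.SG2 (Uq Top)
open Cfsg.Lib.Comp (Tw)
open scoped commutatorElement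

variable {G F M : Type*} [Group G] [Finite G] [Field F] [Finite F] [AddCommGroup M] [Module F M]
  [FiniteDimensional F M] {B : M →ₗ[F] M →ₗ[F] F} {φ y z : sIsom B →* G} {t : G}

theorem G3.root (h : Mo B) (com : ∀ g k, Commute (y g) (z k)) (res : ∀ g, φ g = y g * z g)
    (act : ∀ g, t * y g * t⁻¹ = z g) (u : M) :
    y (tT B u 1) * t * (y (tT B u 1))⁻¹ = φ (tT B u 1) * t ∧
      y (tT B u 1) ∈ Cs ((Fx B (F ∙ u)).map φ) := by
  have s := h.tT_sq u 1
  refine ⟨by rw [res, ← act, ← map_inv, inv_eq_of_mul_eq_one_right s]; group, mem_Cs.2 ?_⟩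
  rintro _ ⟨p, hp, rfl⟩
  have e : lin p u = u := hp u (Submodule.mem_span_singleton_self u)
  have c : Commute (tT B u 1) p := by
    have := h.tT_conj p u 1
    rw [e] at this
    exact (mul_inv_eq_iff_eq_mul.1 this).symm
  exact res p ▸ ((c.map y).mul_right (com _ _)).symm.eq

theorem G3.eq_of_le (h : Mod y) (h' : Mod z) (e : y.range ≤ z.range) : y.range = z.range :=
  eq_of_le_of_card_ge e (by
    rw [MonoidHom.range_eq_map, MonoidHom.range_eq_map, h.card_map, h'.card_map])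

theorem G3.Cs_le (h : ES φ t y z) : z.range ≤ Cs y.range := by
  rintro _ ⟨g, rfl⟩
  exact mem_Cs.2 (by rintro _ ⟨k, rfl⟩; exact (h.com k g).eq)

theorem G3.diag (h : ES φ t y z) (α : MulAut (sIsom B)) :
    ∃ w : sIsom B →* G, Mod w ∧ ∀ g, w g = y g * z (α g) :=
  ⟨(y.noncommCoprod z h.com).comp ((MonoidHom.id _).prod α.toMonoidHom),
    ⟨h.my.toMo, (injective_iff_map_eq_one _).2 fun a e => h.my.one_of
      ((eq_inv_of_mul_eq_one_left (show y a * z (α a) = 1 from e)).symm ▸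
        inv_mem (G3.Cs_le h ⟨α a, rfl⟩))⟩, fun _ => rfl⟩

theorem ES.uniq (h : ES φ t y z) {y' z' : sIsom B →* G} (com : ∀ g k, Commute (y' g) (z' k))
    (res : ∀ g, φ g = y' g * z' g) (act : ∀ g, t * y' g * t⁻¹ = z' g) :
    y'.range ⊔ z'.range ≤ y.range ⊔ z.range := by
  have m := h.my.toMo
  have tM : t ∈ Ns (y.range ⊔ z.range) := h.nL (mem_C1.2 rfl)
  have k : y'.range ≤ y.range ⊔ z.range := by
    rintro _ ⟨a, rfl⟩
    refine (m.gen_T (H := comap y' (y.range ⊔ z.range)) fun u => ?_).ge (mem_top a)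
    rcases eq_or_ne u 0 with rfl | u0
    · rw [m.tT_zero']; exact one_mem _
    obtain ⟨e1, c1⟩ := G3.root m h.com h.res h.act u
    obtain ⟨e2, c2⟩ := G3.root m com res act u
    have s := m.tT_sq u 1
    have n := m.tT_ne u0 (c := 1) one_ne_zero
    rw [mem_comap]
    generalize tT B u 1 = T at *
    have s1 : y T * y T = 1 := by rw [← map_mul, s, map_one]
    have s2 : y' T * y' T = 1 := by rw [← map_mul, s, map_one]
    obtain ⟨v, hv, o, ho, e⟩ := h.toH1.cF (m.ti1 u) (c := (y T)⁻¹ * y' T)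
      (mul_inv_eq_iff_eq_mul.1 (by
        calc _ = (y T)⁻¹ * (y' T * t * (y' T)⁻¹) * y T := by group
          _ = t := by rw [e2, ← e1]; group)) (mul_mem (inv_mem c1) c2)
    have c3 : Commute (φ v) (y T) :=
      mem_Cs.1 c1 _ ⟨v, m.VW_le_Fx (fun a ha x hx => m.ti1 u x hx a ha) hv, rfl⟩
    have := h.toH1.ratio (a := y T) (b := y' T) (v := v) (w := T) (x := v)
      (le_Cs_comm.1 h.cO (mem_sup_left ⟨T, rfl⟩)) ho s1 s2 (by rw [e1, (h.tc T).eq])
      (by rw [← c3.eq, mul_inv_cancel_right])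
      (by rwa [mul_assoc, m.sq_VW (m.ti1 u) hv, mul_one])
      (by
        rw [inv_mul_eq_iff_eq_mul, inv_mul_eq_iff_eq_mul] at e
        simpa only [mul_assoc] using e)
    rw [this, h.res]
    exact mul_mem (mem_sup_left ⟨T, rfl⟩) (mul_mem_sup ⟨v, rfl⟩ ⟨v, rfl⟩)
  refine sup_le k ?_
  rw [← Mp.cj_range (α := 1) act, ← mem_Ns_iff.1 tM]
  exact cj_mono t k

theorem ES.sw (h : ES φ t y z) {g : G} (e : cj (g * t * g⁻¹) y.range = z.range) :
    g ∈ Ns (y.range ⊔ z.range) := by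
  have h' := h.toHyp.cx g
  obtain ⟨α, k⟩ := h.my.exists_Mp h.mz e
  have k' := k.inv
  rw [inv_eq_of_mul_eq_one_right h'.t2] at k'
  obtain ⟨w, hw, ew⟩ := G3.diag h α
  obtain ⟨β, kb⟩ := h'.toMod.exists_Mp hw (c := 1) (by
    rw [cj_one]
    refine (G3.eq_of_le hw h'.toMod (h'.perf hw.perf ?_)).symm
    rintro _ ⟨a, rfl⟩
    refine mem_C1.2 (mul_inv_eq_iff_eq_mul.1 ?_).symm
    rw [ew, ← conj_mul, k, k', MulAut.inv_apply_self, (h.com _ _).eq])
  have := h.uniq (y' := cx (re y β) g⁻¹) (z' := cx (re z (α * β)) g⁻¹)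
    (fun a b => (h.com _ _).map (MulAut.conj g⁻¹)) (fun a => by
      have := kb a
      rw [one_mul, inv_one, mul_one, ew, UM6.cx_apply] at this
      rw [UM6.cx_apply, UM6.cx_apply, conj_mul, UM6.re_apply, UM6.re_apply, MulAut.mul_apply, ← this]
      group) fun a => by
      rw [UM6.cx_apply, UM6.cx_apply, UM6.re_apply, UM6.re_apply, MulAut.mul_apply, ← k]
      group
  rw [UM6.range_cx, UM6.range_cx, UM6.range_re, UM6.range_re, ← cj_sup] at this
  exact inv_mem_iff.1 (mem_normalizer_of_cj_le this)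

end Cfsg.Lib.SPW6
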