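import Cfsg.Agent.SPW6.Api
import Cfsg.Agent.SPW6.C2

/-!
# Standard subgroups of type `Sp_{2k}(2ⁿ)`, type IV: the symplectic group is not alternating
-/

set_option autoImplicit false
set_option linter.unusedSectionVars false

namespace Cfsg.Lib.SPW6

open Subgroup Module Cfsg.Lib.Trans Cfsg.Lib.Gold Cfsg.Lib.Class.Form Cfsg.Lib.Class.FAut
open Cfsg.Lib.UM6 (tT tE VW RR Fx St QW Cf mp Semi fa Mp cx re Ot kk Mx)
open Cfsg.Lib.SP7
open Cfsg.Lib.SG2 (Uq Top)
open Cfsg.Lib.Comp (Tw)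
open Cfsg.Lib.Chev.SpAm (Ix Sp bv idx Fn FixI pl TM)
open scoped commutatorElement

variable {F M : Type*} [Field F] [Finite F] [AddCommGroup M] [Module F M] [FiniteDimensional F M]
  {B : M →ₗ[F] M →ₗ[F] F} {c c' : ℕ → M} {α : MulAut (sIsom B)} {Γ : M ≃+ M} {τ : F ≃+* F}
  {γ : (F ≃+* F) →* MulAut (sIsom B)} {g g' : sIsom B} {i j : ℕ}

namespace NALT

theorem fac {N : ℕ} (h : 9 ≤ N) : 2 ^ (7 * N + 3) < (N + 2).factorial ^ 3 := by
  induction N, h using Nat.le_induction with
  | base => decide +kernel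
  | succ N h ih =>
    rw [show N + 1 + 2 = (N + 2) + 1 from rfl, Nat.factorial_succ, mul_pow,
      show 7 * (N + 1) + 3 = 7 + (7 * N + 3) by ring, pow_add]
    refine Nat.mul_lt_mul_of_le_of_lt ?_ ih (by positivity)
    exact (show 2 ^ 7 ≤ 12 ^ 3 by decide).trans (Nat.pow_le_pow_left (by omega) 3)

theorem prod (q k : ℕ) : ∏ i ∈ Finset.range k, (q ^ (2 * (i + 1)) - 1) ≤ q ^ (k * (k + 1)) := by
  induction k with
  | zero => simp
  | succ k ih =>
    rw [Finset.prod_range_succ, show (k + 1) * (k + 1 + 1) = k * (k + 1) + 2 * (k + 1) by ring, pow_add]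
    exact Nat.mul_le_mul ih (Nat.sub_le _ _)

end NALT

theorem not_alt (h : Mo B) (m : ℕ) : IsEmpty (sIsom B ≃* alternatingGroup (Fin m)) := by
  refine ⟨fun e => ?_⟩
  have hc := Nat.card_congr e.toEquiv
  obtain ⟨n, n1, hn⟩ := h.q_pow
  have k3 := h.three_le
  rw [card_sp h, hn] at hc
  generalize kk F M = k at hc k3
  have k9 : 9 ≤ n * k ^ 2 := by nlinarith
  by_cases hm : 2 ≤ m
  · have : Nontrivial (Fin m) := Fin.nontrivial_iff_two_le.2 hm
    have h2 := two_mul_nat_card_alternatingGroup (α := Fin m)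
    rw [← hc, Nat.card_perm, Nat.card_fin] at h2
    have hd : 2 ^ (n * k ^ 2 + 1) ∣ m.factorial := by
      rw [← h2, ← pow_mul, pow_succ', ← mul_assoc]
      exact Dvd.intro _ rfl
    have h5 : n * k ^ 2 + 1 < m := by
      have := Nat.emultiplicity_two_factorial_lt (n := m) (by omega)
      have h6 := le_emultiplicity_of_pow_dvd hd
      exact_mod_cast h6.trans_lt this
    have h6 : m.factorial ≤ 2 ^ (n * (k ^ 2 + k * (k + 1)) + 1) := by
      rw [← h2, pow_succ' 2, pow_mul 2 n, pow_add]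
      exact Nat.mul_le_mul_left _ (Nat.mul_le_mul_left _ (NALT.prod _ _))
    have h7 := (NALT.fac k9).trans_le (Nat.pow_le_pow_left
      ((Nat.factorial_le (show n * k ^ 2 + 2 ≤ m by omega)).trans h6) 3)
    rw [← pow_mul, Nat.pow_lt_pow_iff_right (by decide)] at h7
    have : 3 * k * n ≤ k * k * n := Nat.mul_le_mul_right _ (Nat.mul_le_mul_right _ k3)
    nlinarith
  · have : Subsingleton (Fin m) := Fin.subsingleton_iff_le_one.2 (by omega)
    rw [Nat.card_of_subsingleton (1 : alternatingGroup (Fin m)), ← pow_mul] at hc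
    have := Nat.eq_one_of_mul_eq_one_right hc
    rw [Nat.pow_eq_one] at this
    omega

end Cfsg.Lib.SPW6
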