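import Cfsg.Agent.SP7.Defs2
import Cfsg.Agent.SF4.CUp
import Cfsg.Agent.Chev.SpAmalB
import Cfsg.Agent.Class.StdForms

/-!
# Standard subgroups of type `Sp_{2k}(2ⁿ)`, type IV: definitions
-/

set_option autoImplicit false
set_option linter.unusedSectionVars false

noncomputable section

namespace Cfsg.Lib.SPW6

open Subgroup Module Cfsg.Lib.Trans Cfsg.Lib.Gold Cfsg.Lib.Class.Form Cfsg.Lib.Class.FAut
open Cfsg.Lib.UM6 (tT tE VW RR Fx St QW Cf mp Semi fa Mp cx re Ot kk Mx)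
open Cfsg.Lib.SP7
open Cfsg.Lib.SG2 (Uq Top)
open Cfsg.Lib.Comp (Tw)
open Cfsg.Lib.Chev.SpAm (Ix Sp bv idx)
open scoped commutatorElement

section Abstract

variable {G Γ : Type*} [Group G] [CommGroup Γ]

/-- The properties of a Sylow 2-subgroup of a factor which are used. -/
structure UP (W : Subgroup G) (n b : ℕ) : Prop where
  two : IsPGroup 2 W
  card : Nat.card W = n
  nc : ∀ A B : Subgroup G, A ≤ Cs B → A ⊔ B = W → A ≤ Cs W ∨ B ≤ Cs W
  zle : W ⊓ Cs W ≤ ⁅W, W⁆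
  zc : Nat.card (W ⊓ Cs W : Subgroup G) ^ 2 < n
  gen : W ≤ closure {v | v ∈ W ∧ v * v = 1 ∧ b ≤ Nat.card (W ⊓ C1 v : Subgroup G)}

/-- The properties of a factor `A` with Sylow 2-subgroup `U`; `D` is the group of elements inducing
standard field automorphisms and `θ` is the map onto the outer automorphism group. -/
structure Fa (A U D : Subgroup G) (θ : G → Γ) (n b : ℕ) : Prop where
  sm : ∀ N : Subgroup G, N ≤ A → A ≤ Ns N → N = ⊥ ∨ N = A
  perf : ⁅A, A⁆ = A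
  syl : IsSylowIn 2 U A
  up : UP U n b
  ic : ∀ v ∈ A, v * v = 1 → ∃ T : Subgroup G, T ≤ A ⊓ C1 v ∧ IsPGroup 2 T ∧ b ≤ Nat.card T
  dN : D ≤ Ns A ⊓ Ns U
  cD : Cs A ≤ D
  dA : A ⊓ D = ⊥
  dec : ∀ g ∈ Ns A, ∃ l ∈ A, l⁻¹ * g ∈ D
  mul : ∀ g ∈ Ns A, ∀ g' ∈ Ns A, θ (g * g') = θ g * θ g'
  ker : ∀ g ∈ Ns A, θ g = 1 ↔ g ∈ A ⊔ Cs A
  h1 : ∀ p ∈ D, ∀ u ∈ U, (u * p) ^ orderOf (θ p) = p ^ orderOf (θ p) →
    ∃ j ∈ U, j * (u * p) * j⁻¹ = p
  fc : ∀ p ∈ D, Nat.card (U ⊓ C1 p : Subgroup G) ^ orderOf (θ p) = n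
  fx : ∀ p ∈ D, ∃ n' b', UP (U ⊓ C1 p) n' b'
  bd1 : n * Nat.card Γ ^ 4 < b ^ 2
  bd2 : 4 * n * Nat.card Γ ^ 2 < b ^ 2

/-- The wreathed configuration. -/
structure WR (A B U V D E : Subgroup G) (θ η : G → Γ) (n b : ℕ) (t : G) (X : Subgroup G) :
    Prop where
  fa : Fa A U D θ n b
  fb : Fa B V E η n b
  t2 : t * t = 1
  tA : cj t A = B
  tU : cj t U = V
  tD : cj t D = E
  tθ : ∀ g ∈ Ns A, η (t * g * t⁻¹) = θ g
  com : A ≤ Cs B
  top : Top X t
  nL : C1 t ≤ Ns (A ⊔ B)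
  odd : Odd (Nat.card (Cs (A ⊔ B)))
  sw : ∀ g, cj (g * t * g⁻¹) A = B → g ∈ Ns (A ⊔ B)

/-- The configuration after the determination of the Sylow 2-subgroup. -/
structure WE (A B U V D E : Subgroup G) (θ η : G → Γ) (n b : ℕ) (t : G) (X : Subgroup G) : Prop
    extends WR A B U V D E θ η n b t X where
  uq : Uq (Ns (A ⊔ B)) t
  syl : IsSylowIn 2 (U ⊔ V) X

/-- The iterated commutator `[J, U, …, U]`. -/
def itc (J U : Subgroup G) (m : ℕ) : Subgroup G := (fun K => ⁅K, U⁆)^[m] J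

theorem itc_zero (J U : Subgroup G) : itc J U 0 = J := rfl

theorem itc_succ (J U : Subgroup G) (m : ℕ) : itc J U (m + 1) = ⁅itc J U m, U⁆ :=
  Function.iterate_succ_apply' _ _ _

/-- The properties of `J = J(U)` and of a short root element `r ∈ Z(U)`. -/
structure Fb (A U J : Subgroup G) (r : G) (m : ℕ) : Prop where
  JU : J ≤ U
  el : ∀ v ∈ J, v * v = 1
  UJ : U ≤ Ns J
  jb : ∀ E : Subgroup G, E ≤ U → (∀ a ∈ E, a * a = 1) →
    Nat.card E ≤ Nat.card J ∧ (Nat.card J ≤ Nat.card E → E = J)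
  r1 : r ≠ 1
  rm : r ∈ itc J U (m + 1)
  lz : itc J U (m + 1) ≤ Cs U
  lc : ∀ s ∈ itc J U (m + 1), s ≠ 1 → ∃ l ∈ A, l * r * l⁻¹ = s
  inv : ∀ v ∈ A, v * v = 1 → ∃ l ∈ A, l * v * l⁻¹ ∈ J
  root : ∀ a ∈ U, a * a ∈ Cs J → a ∉ Cs J → ∃ v ∈ J, ∃ l ∈ A, ⁅v, a⁆ = l * r * l⁻¹
  gen : J ≤ closure {x | ∃ v ∈ J, ∃ a ∈ A ⊓ Ns J, a * a = 1 ∧ x = ⁅v, a⁆}
  cv : ∀ v ∈ J, (∀ a ∈ A ⊓ Ns J, a * a = 1 → Commute v a) → v = 1
  ch : ∃ Q : Subgroup G, Q ≤ U ∧ Ns A ⊓ C1 r ≤ Ns Q ∧ ∃ a ∈ Q, ∃ c ∈ U, a * a = 1 ∧ ⁅a, c⁆ = r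

/-- The wreath end game. -/
structure WF (A B U V D E : Subgroup G) (θ η : G → Γ) (n b : ℕ) (t : G) (X : Subgroup G)
    (J J' : Subgroup G) (r r' : G) (m : ℕ) : Prop extends WE A B U V D E θ η n b t X where
  ga : Fb A U J r m
  gb : Fb B V J' r' m
  tJ : cj t J = J'
  tr : t * r * t⁻¹ = r'

theorem itc_eq_1' : type_of% @itc.eq_1 := @itc.eq_1

end Abstract

section Model

variable {F M : Type*} [Field F] [AddCommGroup M] [Module F M] (B : M →ₗ[F] M →ₗ[F] F)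

/-- A symplectic basis `e₀, …, e_{k-1}, f_{k-1}, …, f₀` written as a chain. -/
def Ch (c : ℕ → M) : Prop := ∀ i j, B (c i) (c j) = if i + j + 1 = 2 * kk F M then 1 else 0

variable (F) in
/-- The flag of a chain. -/
abbrev Lf (c : ℕ → M) (j : ℕ) : Submodule F M := Submodule.span F (c '' Set.Iio j)

/-- The unitriangular group. -/
def UU (c : ℕ → M) : Subgroup (sIsom B) where
  carrier := {g | ∀ j, g ∈ St B (Lf F c j) ∧ ∀ x ∈ Lf F c (j + 1), lin g x - x ∈ Lf F c j}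
  one_mem' j := ⟨one_mem _, fun x _ => by simp⟩
  mul_mem' {a b} ha hb j := ⟨mul_mem (ha j).1 (hb j).1, fun x hx => by
    have e : lin (a * b) x - x = (lin a (lin b x) - lin b x) + (lin b x - x) := by
      rw [lin_mul]; abel
    rw [e]
    exact add_mem ((ha j).2 _ (((hb (j + 1)).1 x).1 hx)) ((hb j).2 x hx)⟩
  inv_mem' {g} h j := ⟨inv_mem (h j).1, fun x hx => by
    have := (h j).2 _ ((inv_mem (h (j + 1)).1 x).1 hx)
    rw [lin_lin_inv] at this
    simpa using neg_mem this⟩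

/-- The semilinear map `Γ` induces `α`, has field part `τ` and fixes the chain. -/
structure Sc (c : ℕ → M) (α : MulAut (sIsom B)) (Γ : M ≃+ M) (τ : F ≃+* F) : Prop where
  ch : Ch B c
  semi : Semi α Γ τ
  fix : ∀ j, Γ (c j) = c j

/-- A chain with its group of standard field automorphisms. -/
structure Fr (c : ℕ → M) (γ : (F ≃+* F) →* MulAut (sIsom B)) : Prop where
  ch : Ch B c
  sc : ∀ τ, ∃ Γ, Sc B c (γ τ) Γ τ

/-- The order of the fixed field. -/
def qf (τ : F ≃+* F) : ℕ := Nat.card {a : F // τ a = a}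

/-- The elements of `U` fixing `f₀, …, f_{i-1}`. -/
def Ui (c : ℕ → M) (i : ℕ) : Subgroup (sIsom B) :=
  UU B c ⊓ Fx B (Submodule.span F (c '' Set.Ici (2 * kk F M - i)))

variable (F) in
/-- The span of `e_{i+1}, …, f_{i+1}`. -/
abbrev Nf (c : ℕ → M) (i : ℕ) : Submodule F M :=
  Submodule.span F (c '' Set.Ioo i (2 * kk F M - 1 - i))

/-- A symplectic basis indexed by `Fin n ⊕ Fin n`. -/
structure Sb {n : ℕ} (b : Ix n → M) : Prop where
  dim : n = kk F M
  form : ∀ i j, B (b i) (b j) = if j = i.swap then 1 else 0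

theorem Ch_eq_1' : type_of% @Ch.eq_1 := @Ch.eq_1
theorem UU_eq_1' : type_of% @UU.eq_1 := @UU.eq_1
theorem qf_eq_1' : type_of% @qf.eq_1 := @qf.eq_1
theorem Ui_eq_1' : type_of% @Ui.eq_1 := @Ui.eq_1

variable {B}

theorem mem_UU {c : ℕ → M} {g : sIsom B} : g ∈ UU B c ↔
    ∀ j, g ∈ St B (Lf F c j) ∧ ∀ x ∈ Lf F c (j + 1), lin g x - x ∈ Lf F c j := Iff.rfl

end Model

/-- The automorphism group of a finite field as a commutative group. -/
def AF (F : Type*) [Field F] : Type _ := F ≃+* F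

theorem AF_eq_1' : type_of% @AF.eq_1 := @AF.eq_1

instance instCommGroupAF (F : Type*) [Field F] [Finite F] : CommGroup (AF F) :=
  { (inferInstanceAs (Group (F ≃+* F)) : Group (AF F)) with mul_comm := UM6.aut_comm }

instance instFiniteAF (F : Type*) [Field F] [Finite F] : Finite (AF F) := UM6.DS.fin F

section Quad

variable {F K : Type*} [Field F] [Field K]

/-- `K = F[γ]`, `γ² + γ = β`, with coordinates `p₀, p₁` and conjugation `τ`. -/
structure QE (ι : F →+* K) (γ : K) (β : F) (p₀ p₁ : K → F) (τ : K ≃+* K) : Prop where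
  two : (2 : F) = 0
  sq : γ * γ = γ + ι β
  dec : ∀ a, a = ι (p₀ a) + γ * ι (p₁ a)
  p0 : ∀ a b, p₀ (ι a + γ * ι b) = a
  p1 : ∀ a b, p₁ (ι a + γ * ι b) = b
  tι : ∀ a, τ (ι a) = ι a
  tγ : τ γ = γ + 1

open Classical in
/-- The square root. -/
def sr (a : F) : F := if h : ∃ b, b * b = a then h.choose else 0

theorem sr_eq_1' : type_of% @sr.eq_1 := @sr.eq_1

variable {G : Type*} [Group G] {n : ℕ}

/-- Steinberg's relations of type `C_n` in characteristic two: `x a c` belongs to the short root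
`a + c`, `y a` to the long root `2 a`, and `a.swap = -a`. -/
structure StC (x : Ix n → Ix n → K → G) (y : Ix n → K → G) : Prop where
  two : (2 : K) = 0
  sym : ∀ a c s, idx a ≠ idx c → x a c s = x c a s
  xadd : ∀ a c s r, idx a ≠ idx c → x a c (s + r) = x a c s * x a c r
  yadd : ∀ a s r, y a (s + r) = y a s * y a r
  yy : ∀ a c s r, c ≠ a.swap → Commute (y a s) (y c r)
  yx : ∀ a c d s r, idx c ≠ idx d → c ≠ a.swap → d ≠ a.swap → Commute (y a s) (x c d r)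
  xx : ∀ a c d e s r, idx a ≠ idx c → idx d ≠ idx e → d ≠ a.swap → d ≠ c.swap → e ≠ a.swap →
    e ≠ c.swap → Commute (x a c s) (x d e r)
  xq : ∀ a c s r, idx a ≠ idx c → Commute (x a c s) (x a c.swap r)
  a2 : ∀ a c d s r, idx a ≠ idx c → idx a ≠ idx d → idx c ≠ idx d →
    x a c s * x c.swap d r = x a d (s * r) * (x c.swap d r * x a c s)
  c2 : ∀ a c s r, idx a ≠ idx c →
    x a c s * y c.swap r = x a c.swap (s * r) * y a (s * s * r) * (y c.swap r * x a c s)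

/-- The short root elements of the matrix group. -/
def mX (a c : Ix n) (s : K) : Sp n K := Chev.SpAm.q (bv a) (s • bv c) 0

/-- The long root elements of the matrix group. -/
def mY (a : Ix n) (s : K) : Sp n K := Chev.SpAm.q (bv a) 0 s

/-- The Weyl elements of the long roots. -/
def wY (y : Ix n → K → G) (a : Ix n) (s : K) : G := y a s * y a.swap s⁻¹ * y a s

/-- The short root elements of the graph. -/
def gX (x : Ix n → Ix n → K → G) (a c : Ix n) (s : K) : Sp n K × G := (mX a c s, x a c s)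

/-- The long root elements of the graph. -/
def gY (y : Ix n → K → G) (a : Ix n) (s : K) : Sp n K × G := (mY a s, y a s)

/-- The rank one members of the amalgam. -/
def gS (y : Ix n → K → G) (k : Fin n) : Subgroup (Sp n K × G) :=
  closure (Set.range (gY y (.inl k))) ⊔ closure (Set.range (gY y (.inr k)))

/-- The abelian members of the amalgam. -/
def gM (x : Ix n → Ix n → K → G) (y : Ix n → K → G) (k : Fin n) : Subgroup (Sp n K × G) :=
  closure {g | ∃ l : Fin n, (l : ℕ) = k + 1 ∧ ∃ s,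
    g = gY y (.inl k) s ∨ g = gY y (.inl l) s ∨ g = gX x (.inl k) (.inl l) s}

theorem mX_eq_1' : type_of% @mX.eq_1 := @mX.eq_1
theorem mY_eq_1' : type_of% @mY.eq_1 := @mY.eq_1
theorem wY_eq_1' : type_of% @wY.eq_1 := @wY.eq_1
theorem gX_eq_1' : type_of% @gX.eq_1 := @gX.eq_1
theorem gY_eq_1' : type_of% @gY.eq_1 := @gY.eq_1
theorem gS_eq_1' : type_of% @gS.eq_1 := @gS.eq_1
theorem gM_eq_1' : type_of% @gM.eq_1 := @gM.eq_1

end Quad

section Hyp

variable {G F M : Type*} [Group G] [Field F] [AddCommGroup M] [Module F M]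
  {B : M →ₗ[F] M →ₗ[F] F} (φ : sIsom B →* G) (t : G)

/-- `E((γ + s) u, w)`. -/
def Ye (H : M → M → G) (s : F) (u w : M) : G := H u w * φ (tE B u (s • w))

/-- `T_u(γ + s)`. -/
def Yt (D : M → G) (s : F) (u : M) : G := D u * φ (tT B u s)

/-- The split case. -/
structure ES (y z : sIsom B →* G) : Prop extends H1 φ t where
  my : Mod y
  mz : Mod z
  res : ∀ g, φ g = y g * z g
  com : ∀ g k, Commute (y g) (z k)
  act : ∀ g, t * y g * t⁻¹ = z g
  cO : Ot φ t ≤ Cs (y.range ⊔ z.range)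
  nL : C1 t ≤ Ns (y.range ⊔ z.range)

/-- The elements inducing standard field automorphisms. -/
def DD (γ : (F ≃+* F) →* MulAut (sIsom B)) : Subgroup G where
  carrier := {p | ∃ τ, Mp φ φ p (γ τ)}
  one_mem' := ⟨1, by rw [map_one]; exact UM6.Mp.one⟩
  mul_mem' := fun ⟨τ, a⟩ ⟨ρ, b⟩ => ⟨τ * ρ, by rw [map_mul]; exact a.mul b⟩
  inv_mem' := fun ⟨τ, a⟩ => ⟨τ⁻¹, by rw [map_inv]; exact a.inv⟩

open Classical in
/-- The field part of the automorphism induced by `g`. -/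
def th (g : G) : AF F := if h : ∃ α, Mp φ φ g α then fa h.choose else (1 : F ≃+* F)

variable {K : Type*} [Field K]

/-- `E(s u, w)` for `s ∈ K`. -/
def XK (H : M → M → G) (p₀ p₁ : K → F) (u w : M) (s : K) : G :=
  φ (tE B u (p₀ s • w)) * H u (p₁ s • w)

/-- `T_u(s)` for `s ∈ K`. -/
def YK (D : M → G) (p₀ p₁ : K → F) (u : M) (s : K) : G := φ (tT B u (p₀ s)) * D (sr (p₁ s) • u)

variable (B) in
/-- The relations between the root elements with parameters in `K`. -/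
structure VX (ι : F →+* K) (X : M → M → K → G) (Y : M → K → G) : Prop where
  sym : ∀ u w s, B u w = 0 → X u w s = X w u s
  xadd : ∀ u w s r, B u w = 0 → X u w (s + r) = X u w s * X u w r
  yadd : ∀ u s r, Y u (s + r) = Y u s * Y u r
  yy : ∀ u w s r, B u w = 0 → Commute (Y u s) (Y w r)
  yx : ∀ u w x s r, O3 B u w x → Commute (Y u s) (X w x r)
  xx : ∀ u w x y s r, O3 B u w x → O3 B u w y → B x y = 0 → Commute (X u w s) (X x y r)
  xq : ∀ u x y s r, B u x = 0 → B u y = 0 → Commute (X u x s) (X u y r)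
  a2 : ∀ u x w y s r, O3 B w u x → B w y = 0 → B x y = 0 →
    X x u s * X y w r = X x w (ι (B u y) * s * r) * (X y w r * X x u s)
  mul : ∀ w y y' s, B w y = 0 → B w y' = 0 →
    X w y s * X w y' s = X w (y + y') s * Y w (ι (B y y') * s * s)

variable {N : Type*} [AddCommGroup N] [Module K N] {C : N →ₗ[K] N →ₗ[K] K}

/-- The field case. -/
structure EF (ψ : sIsom C →* G) (α : MulAut (sIsom C)) : Prop extends H1 φ t where
  ms : Mod ψ
  card : Nat.card K = Nat.card F ^ 2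
  rank : kk K N = kk F M
  le : φ.range ≤ ψ.range
  act : Mp ψ ψ t α
  out : fa α ≠ 1
  cO : Ot φ t ≤ Cs ψ.range
  nL : C1 t ≤ Ns ψ.range

/-- The field end game; `φ` is now the large group. -/
structure FF (X : Subgroup G) (c : ℕ → M) (α : MulAut (sIsom B)) (Γ : M ≃+ M) (τ : F ≃+* F) :
    Prop extends Mod φ where
  t2 : t * t = 1
  act : Mp φ φ t α
  sc : Sc B c α Γ τ
  t1 : τ ≠ 1
  top : Top X t
  le : φ.range ≤ X
  odd : Odd (Nat.card (Cs φ.range))
  uq : Uq (Ns φ.range) t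
  tw : ∀ g ∈ X ⊓ Ns φ.range, Tw g → g ∈ φ.range
  syl : IsSylowIn 2 ((UU B c).map φ) X

/-- With control of the fusion of involutions. -/
structure FG (X : Subgroup G) (c : ℕ → M) (α : MulAut (sIsom B)) (Γ : M ≃+ M) (τ : F ≃+* F) :
    Prop extends FF φ t X c α Γ τ where
  fus : ∀ (v w : sIsom B) (g : G), v * v = 1 → g * φ v * g⁻¹ = φ w → ∃ β : MulAut (sIsom B), β v = w

/-- The centraliser of a transvection. -/
abbrev YY (X : Subgroup G) (u : M) : Subgroup G := X ⊓ C1 (φ (tT B u 1))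

theorem Ye_eq_1' : type_of% @Ye.eq_1 := @Ye.eq_1
theorem Yt_eq_1' : type_of% @Yt.eq_1 := @Yt.eq_1
theorem DD_eq_1' : type_of% @DD.eq_1 := @DD.eq_1
theorem th_eq_1' : type_of% @th.eq_1 := @th.eq_1
theorem XK_eq_1' : type_of% @XK.eq_1 := @XK.eq_1
theorem YK_eq_1' : type_of% @YK.eq_1 := @YK.eq_1

variable {φ} in
theorem mem_DD {γ : (F ≃+* F) →* MulAut (sIsom B)} {p : G} :
    p ∈ DD φ γ ↔ ∃ τ, Mp φ φ p (γ τ) := Iff.rfl

end Hyp

end Cfsg.Lib.SPW6

end
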