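import Cfsg.Agent.SPW6.WD

/-!
# The wreathed configuration: diagonal subgroups, the embedding lemma
-/

set_option autoImplicit false
set_option linter.unusedSectionVars false

namespace Cfsg.Lib.SPW6.WU

open Subgroup Cfsg.Lib.Trans Cfsg.Lib.Gold
open Cfsg.Lib.SF4.Wr (map_le_Cs map_inf_Cs map_inf_C1 lcs lcs_mono lcs_cent lcs_le lcs_succ card_le_left)
open scoped commutatorElement

variable {G : Type*} [Group G] {A B W : Subgroup G} {s : G} {n b : ℕ}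

section Map

variable {G' : Type*} [Group G'] {f : G →* G'} (hf : Function.Injective f)
include hf

theorem gen_map : (closure {v | v ∈ W ∧ v * v = 1 ∧ b ≤ Nat.card (W ⊓ C1 v : Subgroup G)}).map f =
    closure {v | v ∈ W.map f ∧ v * v = 1 ∧ b ≤ Nat.card (W.map f ⊓ C1 v : Subgroup G')} := by
  rw [MonoidHom.map_closure]
  congr 1
  ext g
  constructor
  · rintro ⟨v, ⟨h1, h2, h3⟩, rfl⟩
    exact ⟨mem_map_of_mem f h1, by rw [← map_mul, h2, map_one],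
      by rwa [← map_inf_C1 hf, card_map_of_injective hf]⟩
  · rintro ⟨⟨v, h1, rfl⟩, h2, h3⟩
    exact ⟨v, ⟨h1, hf (by rwa [map_mul, map_one]),
      by rwa [← map_inf_C1 hf, card_map_of_injective hf] at h3⟩, rfl⟩

theorem map_iff : UP (W.map f) n b ↔ UP W n b := by
  have e := (W.equivMapOfInjective f hf)
  refine ⟨fun h => ⟨h.two.of_equiv e.symm, by rw [← h.card, card_map_of_injective hf],
    fun A B h1 h2 => ?_, ?_, ?_, ?_⟩, fun h => ⟨h.two.of_equiv e,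
      by rw [← h.card, card_map_of_injective hf], fun A B h1 h2 => ?_, ?_, ?_, ?_⟩⟩
  · exact (h.nc _ _ ((map_le_Cs hf).2 h1) (by rw [← Subgroup.map_sup, h2])).imp (map_le_Cs hf).1
      (map_le_Cs hf).1
  · rw [← map_le_map_iff_of_injective hf, map_inf_Cs hf, map_commutator]; exact h.zle
  · rw [← card_map_of_injective hf, map_inf_Cs hf]; exact h.zc
  · rw [← map_le_map_iff_of_injective hf, gen_map hf]; exact h.gen
  · have k : ∀ K : Subgroup G', K ≤ W.map f → ∃ K' : Subgroup G, K'.map f = K := fun K hK =>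
      ⟨_, map_comap_eq_self (hK.trans (map_le_range f W))⟩
    obtain ⟨A, rfl⟩ := k A (le_sup_left.trans h2.le)
    obtain ⟨B, rfl⟩ := k B (le_sup_right.trans h2.le)
    exact (h.nc _ _ ((map_le_Cs hf).1 h1) (map_injective hf (by rw [Subgroup.map_sup, h2]))).imp
      (map_le_Cs hf).2 (map_le_Cs hf).2
  · rw [← map_inf_Cs hf, ← map_commutator]; exact map_mono h.zle
  · rw [← map_inf_Cs hf, card_map_of_injective hf]; exact h.zc
  · rw [← gen_map hf]; exact map_mono h.gen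

end Map

theorem up_cj (h : UP W n b) (g : G) : UP (cj g W) n b :=
  (map_iff (f := (MulAut.conj g).toMonoidHom) (MulAut.conj g).injective).2 h

theorem exists_diag (hc : A ≤ Cs B) (hd : A ⊓ B = ⊥) (h1 : cj s A = B) (hW : W ≤ A ⊓ C1 (s * s))
    (h2 : IsPGroup 2 W) : ∃ W' : Subgroup G, W' ≤ (A ⊔ B) ⊓ C1 s ∧ IsPGroup 2 W' ∧
      ∀ n b, UP W n b → UP W' n b := by
  have hB : ∀ w : W, s * w * s⁻¹ ∈ B := fun w => h1 ▸ conj_mem_cj.2 (hW w.2).1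
  have k : ∀ w w' : W, s * w * s⁻¹ * w' = w' * (s * w * s⁻¹) := fun w w' =>
    mem_Cs.1 (hc (hW w'.2).1) _ (hB w)
  let f : W →* G := MonoidHom.mk' (fun w => w * (s * w * s⁻¹)) fun w w' => by
    rw [coe_mul, mul_assoc (w : G) (s * w * s⁻¹), ← mul_assoc (s * w * s⁻¹), k, ← conj_mul]
    simp only [mul_assoc]
  have hf : Function.Injective f := (injective_iff_map_eq_one f).2 fun w e =>
    Subtype.ext (SG2.eq_one_of_mul hd (hW w.2).1 (hB w) e).1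
  refine ⟨(⊤ : Subgroup W).map f, ?_, (h2.to_subgroup ⊤).map f, fun n b h => (map_iff hf).2
    ((map_iff W.subtype_injective).1 (by rwa [← MonoidHom.range_eq_map, range_subtype]))⟩
  rintro _ ⟨w, -, rfl⟩
  refine ⟨mul_mem (mem_sup_left (hW w.2).1) (mem_sup_right (hB w)), mem_C1.2 ?_⟩
  change (w : G) * (s * w * s⁻¹) * s = s * (w * (s * w * s⁻¹))
  have e : (w : G) * (s * s) = s * s * w := mem_C1.1 (hW w.2).2
  calc _ = s * w * s⁻¹ * w * s := by rw [k]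
    _ = s * w * s⁻¹ * (w * (s * s)) * s⁻¹ := by group
    _ = _ := by rw [e]; group

theorem emb [Finite G] {A₁ A₂ Ω : Subgroup G} (h : UP W n b) (hc : A₁ ≤ Cs A₂)
    (hΩ : Ω ≤ Cs (A₁ ⊔ A₂ ⊔ Ω)) (hd : (A₁ ⊔ A₂) ⊓ Ω = ⊥) (hd' : A₁ ⊓ A₂ = ⊥) (hW : W ≤ A₁ ⊔ A₂ ⊔ Ω)
    (c1 : Nat.card A₁ ^ 2 = n) (c2 : Nat.card A₂ ^ 2 = n) : False := by
  have cΩ : ∀ K : Subgroup G, K ≤ A₁ ⊔ A₂ ⊔ Ω → K ≤ Cs Ω := fun K hK =>
    le_Cs_comm.1 (hΩ.trans (Cs_anti hK))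
  have h1 : W ⊓ Ω = ⊥ := eq_bot_iff.2 (hd ▸ le_inf ((le_inf inf_le_left (inf_le_right.trans
    (hΩ.trans (Cs_anti hW)))).trans (h.zle.trans ((lcs_mono hW 1).trans ((lcs_cent hΩ 0).trans
      (lcs_le _ _))))) inf_le_right)
  have h2 : W ⊔ Ω = A₁ ⊔ A₂ ⊔ Ω := eq_of_le_of_card_ge (sup_le hW le_sup_right) (by
    rw [SG2.card_sup_Cs (cΩ _ hW) h1, SG2.card_sup_Cs (cΩ _ le_sup_left) hd,
      SG2.card_sup_Cs hc hd', h.card, ← Nat.pow_left_injective two_ne_zero (c1.trans c2.symm), ← sq,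
      c1])
  have h3 : ∀ K : Subgroup G, K ≤ A₁ ⊔ A₂ → K ≤ W ⊓ (K ⊔ Ω) ⊔ Ω := fun K hK c hc => by
    obtain ⟨w, hw, ω, hω, e⟩ := (SG2.mem_sup_Cs (cΩ _ hW)).1 (h2.ge (mem_sup_left (hK hc)))
    refine e ▸ mul_mem (mem_sup_left ⟨hw, ?_⟩) (mem_sup_right hω)
    rw [eq_mul_inv_of_mul_eq e]
    exact (K ⊔ Ω).mul_mem (mem_sup_left hc) (mem_sup_right (inv_mem hω))
  have h4 : ∀ K : Subgroup G, K ≤ A₁ ⊔ A₂ → Nat.card K ^ 2 = n → ¬ W ⊓ (K ⊔ Ω) ≤ Cs W :=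
    fun K hK e h5 => not_le.2 h.zc (e ▸ Nat.pow_le_pow_left ((card_le_left
      (cΩ _ (inf_le_left.trans hW)) (h3 K hK) (eq_bot_iff.2 (hd ▸ inf_le_inf_right _ hK))).trans
        (Subgroup.card_le_of_le (le_inf inf_le_left h5))) 2)
  have h5 : A₁ ⊔ Ω ≤ Cs (A₂ ⊔ Ω) := sup_le
    (le_Cs_comm.1 (sup_le (le_Cs_comm.1 hc) (hΩ.trans (Cs_anti (le_sup_left.trans le_sup_left)))))
    (hΩ.trans (Cs_anti (sup_le_sup_right le_sup_right _)))
  refine (h.nc _ _ (inf_le_right.trans (h5.trans (Cs_anti inf_le_right))) (le_antisymm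
    (sup_le inf_le_left inf_le_left) fun w hw => ?_)).elim (h4 _ le_sup_left c1)
      (h4 _ le_sup_right c2)
  have h6 : W ⊓ (A₁ ⊔ Ω) ⊔ W ⊓ (A₂ ⊔ Ω) ≤ W := sup_le inf_le_left inf_le_left
  obtain ⟨u, hu, ω, hω, rfl⟩ := (SG2.mem_sup_Cs (cΩ _ (h6.trans hW))).1 ((sup_le (sup_le
    ((h3 _ le_sup_left).trans (sup_le_sup_right le_sup_left _))
    ((h3 _ le_sup_right).trans (sup_le_sup_right le_sup_right _))) le_sup_right) (hW hw))
  rwa [mem_bot.1 (h1.le ⟨(mul_mem_cancel_left (h6 hu)).1 hw, hω⟩), mul_one]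

end Cfsg.Lib.SPW6.WU
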